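import Cfsg.Agent.Lib.TL2.H
import Cfsg.Agent.Lib.PSL2.Four
import Cfsg.Agent.Lib.PSL2.Proper

/-! Centralizers with a section `2 × PSL₂(q)` of odd index over an odd kernel. -/

set_option autoImplicit false

namespace Cfsg.Lib.TL2

open Subgroup Cfsg.Lib.BG Cfsg.Lib.FGS Cfsg.Lib.SR
open Cfsg.Lib.Transfer hiding card_mul_relIndex
open scoped MatrixGroups

theorem psl_syl {F : Type*} [Field F] [Finite F] (hF : 3 < Nat.card F) {P : Subgroup PSL(2, F)} (hP : Syl 2 P ⊤) :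
    ((∀ x ∈ P, x * x = 1) ∧ 4 ≤ Nat.card P ∧ ∃ h ∈ 𝐍(P), 𝐍(P) ≤ zpowers h ⊔ 𝐂(P)) ∨
      ∃ n, 2 < n ∧ Nonempty (P ≃* DihedralGroup n) := by
  obtain ⟨p, hp⟩ := CharP.exists F
  have := Fact.mk (CharP.char_is_prime F p)
  by_cases h2 : p = 2
  · subst h2
    obtain ⟨T, rfl⟩ := Syl.top_iff_sylow.1 hP
    obtain ⟨x, hx⟩ := PSL2.exists_sylow_eq_unipL 2 T
    have P2 : ∀ g ∈ (T : Subgroup PSL(2, F)), g * g = 1 := fun g hg => by
      by_cases g1 : g = 1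
      · simp [g1]
      · exact Inv.mul_self_of_orderOf (PSL2.orderOf_of_mem_unipL 2 (hx ▸ hg) g1)
    refine .inl ⟨P2, by rw [hx, PSL2.card_unipL]; omega, ?_⟩
    have h1 := hP.of_le (le_norm _) le_top
    obtain ⟨B, b1, -, b2, b3⟩ := Coprime.exists_complement (le_norm _) le_rfl h1.coprime
    have ho : Odd (Nat.card (B.map PSL2.toP)) := by
      rw [card_map_of_injective PSL2.toP_injective, b3]; exact Inv.odd_card_iff_not_two_dvd.2 (Syl.not_dvd' h1)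
    have := PSL2.isCyclic_of_coprime_of_odd 2 (Nat.coprime_two_right.2 ho) ho
    obtain ⟨h, rfl⟩ := (Subgroup.isCyclic_iff_exists_zpowers_eq_top B).1
      ((B.equivMapOfInjective _ PSL2.toP_injective).isCyclic.2 this)
    refine ⟨h, b1 (mem_zpowers h), b2.ge.trans (sup_le (le_trans ?_ le_sup_right) le_sup_left)⟩
    exact le_cent_iff.2 fun _ ha _ hb => sq_comm P2 ha hb
  obtain ⟨k, -, hk⟩ := PSL2.exists_card_eq_pow (F := F) p
  have hq : Odd (Nat.card F) := hk ▸ ((Fact.out : p.Prime).odd_of_ne_two h2).pow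
  obtain ⟨m, hm⟩ := IsPGroup.iff_card.1 hP.pgroup
  obtain ⟨V, hV⟩ := PSL2.exists_four_psl (F := F) hq
  obtain ⟨g, -, l⟩ := hP.exists_conj_le (Inv.k4_isPGroup hV) le_top
  have k4 := Inv.k4_conj hV g
  by_cases e : g ⋆ V = P
  · rw [e] at k4
    refine .inl ⟨fun _ => Inv.k4_mul_self k4, k4.card_four.ge, ?_⟩
    have h3 : 𝐂(P).relIndex 𝐍(P) ∣ 3 := (Nat.Coprime.dvd_mul_left (Nat.coprime_two_right.2
      (Inv.odd_card_iff_not_two_dvd.2 fun hd => Syl.not_dvd' (hP.of_le (le_norm _) le_top) (hd.trans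
        (relIndex_dvd_left (Inv.k4_le_centralizer k4) _))))).1 (Inv.k4_relIndex_dvd_six k4)
    by_cases hc : 𝐍(P) ≤ 𝐂(P)
    · exact ⟨1, one_mem _, hc.trans le_sup_right⟩
    obtain ⟨h, h1, h2⟩ := SetLike.not_le_iff_exists.1 hc
    have l : zpowers h ⊔ 𝐂(P) ≤ 𝐍(P) := sup_le (zpowers_le.2 h1) (cent_le_norm P)
    have e := relIndex_mul_relIndex _ _ _ (le_sup_right : 𝐂(P) ≤ _) l
    refine ⟨h, h1, relIndex_eq_one.1 ?_⟩
    rcases (Nat.dvd_prime Nat.prime_three).1 ((Dvd.intro _ e).trans h3) with e' | e'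
    · exact absurd (relIndex_eq_one.1 e' (mem_sup_left (mem_zpowers h))) h2
    · rw [← e, e'] at h3
      exact Nat.eq_one_of_dvd_one (Nat.dvd_of_mul_dvd_mul_left (by decide) h3)
  obtain ⟨a, b, r, hab, l2⟩ := PSL2.exists_le_dihL_of_coprime (AlgebraicClosure F) p (H := P)
    (hm ▸ ((Nat.coprime_primes Nat.prime_two Fact.out).2 (Ne.symm h2)).pow_left m) fun hd => by
      rw [hm] at hd
      exact absurd (Nat.prime_three.dvd_of_dvd_pow ((by decide : 3 ∣ 12).trans hd)) (by decide)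
  obtain ⟨i⟩ := PSL2.dihedral_of_le_dihL hab.ne l2 fun hc => by
    have := PSL2.isCyclic_torusL (F := F) hab.ne
    exact IsKleinFour.not_isCyclic (isCyclic_of_le (l.trans hc))
  refine .inr ⟨_, ?_, ⟨i⟩⟩
  have h1 := card_lt_of_lt (lt_of_le_of_ne l e)
  rw [Nat.card_congr i.toEquiv, DihedralGroup.nat_card, k4.card_four] at h1
  omega

variable {G L : Type*} [Group G] [Finite G] [Group L] [Finite L] {J K T X : Subgroup G} {t x y : G} {f : G → L}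

/-- `J = K × ⟨t⟩` contains all `2`-elements of `C(t)`, and `f` maps `K` onto `L` with kernel of odd order. -/
structure Ex (t : G) (J K : Subgroup G) (f : G → L) : Prop where
  t2 : t * t = 1
  le : J ≤ 𝐂[t]
  norm : 𝐂[t] ≤ 𝐍(J)
  two : ∀ X : Subgroup G, IsPGroup 2 X → X ≤ 𝐂[t] → X ≤ J
  mul : ∀ x ∈ J, ∀ y ∈ J, f (x * y) = f x * f y
  KJ : K ≤ J
  Kn : J ≤ 𝐍(K)
  idx : ∀ x ∈ J, x ∈ K ∨ x * t ∈ K
  tn : t ∉ K
  ft : f t = 1
  surj : ∀ l, ∃ j ∈ K, f j = l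
  ker : ∀ j ∈ K, f j = 1 → Odd (orderOf j)

namespace Ex

variable (c : Ex t J K f)
include c

/-- The homomorphism. -/
def hom : J →* L := MonoidHom.mk' (fun x => f x) fun x y => c.mul x x.2 y y.2

omit [Finite G] [Finite L] in
theorem inv (hx : x ∈ J) : f x⁻¹ = (f x)⁻¹ := map_inv c.hom ⟨x, hx⟩

omit [Finite G] [Finite L] in
theorem one : f 1 = 1 := map_one c.hom

omit [Finite G] [Finite L] in
theorem zpow (hx : x ∈ J) (n : ℤ) : f (x ^ n) = f x ^ n := map_zpow c.hom ⟨x, hx⟩ n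

omit [Finite G] [Finite L] in
theorem cj (hx : x ∈ J) (hy : y ∈ J) : f (x * y * x⁻¹) = f x * f y * (f x)⁻¹ := by
  rw [c.mul _ (J.mul_mem hx hy) _ (J.inv_mem hx), c.mul x hx y hy, c.inv hx]

omit [Finite G] [Finite L] in
theorem tJ : t ∈ J := c.two _ (pg_zp c.t2) (zpowers_le.2 (self_mem_cent1 t)) (mem_zpowers t)

/-- The image of a subgroup. -/
def im (X : Subgroup G) : Subgroup L := (X.subgroupOf J).map c.hom

omit [Finite G] [Finite L] in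
theorem mem_im {l : L} (h : X ≤ J) : l ∈ c.im X ↔ ∃ x ∈ X, f x = l :=
  ⟨fun ⟨x, hx, e⟩ => ⟨x, hx, e⟩, fun ⟨x, hx, e⟩ => ⟨⟨x, h hx⟩, hx, e⟩⟩

omit [Finite L] [Finite G] in
theorem conj_inv (hx : x ∈ K) (hy : y ∈ K) (x2 : x * x = 1) (y2 : y * y = 1) (e : IsConj (f x) (f y)) :
    ∃ g ∈ 𝐂[t], g * x * g⁻¹ = y := by
  obtain ⟨l, hl⟩ := isConj_iff.1 e
  obtain ⟨j, hj, rfl⟩ := c.surj l
  have m := K.mul_mem (K.mul_mem hj hx) (K.inv_mem hj)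
  obtain ⟨k, hk⟩ := Inv.exists_pow_conj_of_odd (x := j * x * j⁻¹) (by
    rw [show j * x * j⁻¹ * (j * x * j⁻¹) = j * (x * x) * j⁻¹ by group, x2]; group) y2 (c.ker _ (K.mul_mem m hy) (by
      rw [c.mul _ (c.KJ m) _ (c.KJ hy), c.cj (c.KJ hj) (c.KJ hx), hl, ← c.mul _ (c.KJ hy) _ (c.KJ hy), y2, c.one]))
  exact ⟨_, c.le (c.KJ (K.mul_mem (K.pow_mem (K.mul_mem m hy) k) hj)), Eq.trans (by group) hk⟩

variable (hT : Syl 2 T 𝐂[t])
include hT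

omit [Finite L] in
theorem TJ : T ≤ J := c.two T hT.pgroup hT.le

omit [Finite L] in
theorem tT : t ∈ T := hT.ge_of_norm_p (zpowers_le.2 (self_mem_cent1 t)) (pg_zp c.t2)
  (norm_of_cent (by rw [cent_zpowers]; exact hT.le)) (mem_zpowers t)

omit [Finite L] [Finite G] [Group L] c in
theorem tD : t ∈ 𝐂(T ⊓ K) := le_cent1_iff.1 (inf_le_left.trans hT.le)

omit [Finite L] in
theorem sup : T ⊓ K ⊔ zpowers t = T := le_antisymm (sup_le inf_le_left (zpowers_le.2 (c.tT hT))) fun x hx => by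
  rw [mem_sup_zp (cent_le_norm _ (tD hT)) (c.t2 ▸ one_mem _), inv_self c.t2]
  exact (c.idx x (c.TJ hT hx)).imp (fun e => ⟨hx, e⟩) fun e => ⟨T.mul_mem hx (c.tT hT), e⟩

omit [Finite L] in
theorem inj (hx : x ∈ T ⊓ K) (hy : y ∈ T ⊓ K) (e : f x = f y) : x = y := by
  have m := mul_mem (inv_mem hx) hy
  have := c.ker _ m.2 (by rw [c.mul _ (c.KJ (inv_mem hx).2) _ (c.KJ hy.2), c.inv (c.KJ hx.2), e, inv_mul_cancel])
  obtain ⟨n, hn⟩ := IsPGroup.iff_orderOf.1 hT.pgroup ⟨_, m.1⟩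
  rw [orderOf_mk] at hn
  rw [← inv_mul_eq_one, ← orderOf_eq_one_iff]
  exact Nat.eq_one_of_self_coprime' (hn ▸ (Nat.coprime_two_left.2 this).pow_left n)
where Nat.eq_one_of_self_coprime' {n : ℕ} (h : n.Coprime n) : n = 1 := (Nat.coprime_self n).1 h

omit [Finite L] in
theorem im_eq : c.im (T ⊓ K) = c.im T := le_antisymm (map_mono (subgroupOf_mono _ inf_le_left)) fun l hl => by
  obtain ⟨x, hx, rfl⟩ := (c.mem_im (c.TJ hT)).1 hl
  rcases c.idx x (c.TJ hT hx) with e | e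
  · exact (c.mem_im (inf_le_right.trans c.KJ)).2 ⟨x, ⟨hx, e⟩, rfl⟩
  · exact (c.mem_im (inf_le_right.trans c.KJ)).2 ⟨_, ⟨T.mul_mem hx (c.tT hT), e⟩, by
      rw [c.mul x (c.TJ hT hx) t c.tJ, c.ft, mul_one]⟩

omit [Finite L] in
theorem sylP : Syl 2 (c.im (T ⊓ K)) ⊤ := by
  have := ((Hall.subgroupOf_iff le_rfl (c.TJ hT)).2 (hT.of_le (c.TJ hT) c.le)).map c.hom
  rw [subgroupOf_self, map_top_of_surjective _ fun l => let ⟨j, hj, e⟩ := c.surj l; ⟨⟨j, c.KJ hj⟩, e⟩] at this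
  exact c.im_eq hT ▸ this

omit [Finite L] in
theorem equiv : Nonempty (↥(T ⊓ K) ≃* c.im (T ⊓ K)) := by
  have l : T ⊓ K ≤ J := inf_le_right.trans c.KJ
  exact ⟨MulEquiv.ofBijective ((c.hom.comp (inclusion l)).codRestrict _ fun x => (c.mem_im l).2 ⟨x, x.2, rfl⟩)
    ⟨fun x y e => Subtype.ext (c.inj hT x.2 y.2 (congrArg Subtype.val e)), fun ⟨_, hl⟩ =>
      let ⟨x, hx, e⟩ := (c.mem_im l).1 hl; ⟨⟨x, hx⟩, Subtype.ext e⟩⟩⟩

omit [Finite L] in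
theorem ord (hx : x ∈ T ⊓ K) (x1 : x ≠ 1) (x2 : x * x = 1) : orderOf (f x) = 2 :=
  Inv.ord_two_iff.2 ⟨fun e => x1 (c.inj hT hx (one_mem _) (e.trans c.one.symm)), by
    rw [← c.mul x (c.KJ hx.2) x (c.KJ hx.2), x2, c.one]⟩

omit [Finite L] in
theorem di (hi : ∀ x y : L, orderOf x = 2 → orderOf y = 2 → IsConj x y) {n : ℕ} (hn : 2 < n)
    (e : c.im (T ⊓ K) ≃* DihedralGroup n) : ∃ z a b m, Di t z a b m (T ⊓ K) := by
  obtain ⟨i⟩ := c.equiv hT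
  obtain ⟨a, b, m, rfl, h⟩ := Inv.exists_mc_of_dihedral (pgroup_of_le hT.pgroup inf_le_left) hn.le (i.trans e)
  exact ⟨_, a, b, m, c.t2, tD hT, fun e => c.tn e.2, h, by rintro rfl; simp at hn, rfl, (c.sup hT).symm ▸ hT,
    fun x hx x1 x2 => c.conj_inv hx.2 (h.zpow_mem _).2 x2 h.z_mul_self
      (hi _ _ (c.ord hT hx x1 x2) (c.ord hT (h.zpow_mem _) h.z_ne_one h.z_mul_self))⟩

theorem el (hi : ∀ x y : L, orderOf x = 2 → orderOf y = 2 → IsConj x y) (P2 : ∀ x ∈ c.im (T ⊓ K), x * x = 1)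
    (h4 : 4 ≤ Nat.card (c.im (T ⊓ K))) {k : L} (k1 : k ∈ 𝐍(c.im (T ⊓ K)))
    (k2 : 𝐍(c.im (T ⊓ K)) ≤ zpowers k ⊔ 𝐂(c.im (T ⊓ K))) : ∃ h, El t h (T ⊓ K) := by
  have hP := c.sylP hT
  have l : T ⊓ K ≤ J := inf_le_right.trans c.KJ
  have mP : ∀ {x}, x ∈ T → f x ∈ c.im (T ⊓ K) := fun hx => c.im_eq hT ▸ (c.mem_im (c.TJ hT)).2 ⟨_, hx, rfl⟩
  obtain ⟨i⟩ := c.equiv hT
  have e4 := Nat.card_congr i.toEquiv
  have V2 : ∀ v ∈ T ⊓ K, v * v = 1 := fun v hv => c.inj hT (mul_mem hv hv) (one_mem _) (by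
    rw [c.mul v (l hv) v (l hv), P2 _ (mP hv.1), c.one])
  have sur : ∀ {y}, y ∈ c.im (T ⊓ K) → ∃ x ∈ T ⊓ K, f x = y := fun h => (c.mem_im l).1 h
  generalize c.im (T ⊓ K) = P at *
  have PC : P ≤ 𝐂(P) := le_cent_iff.2 fun _ ha _ hb => sq_comm P2 ha hb
  obtain ⟨j, j1, rfl⟩ := c.surj k
  let M := (P.comap c.hom).map J.subtype
  have mM : ∀ {x}, x ∈ M ↔ x ∈ J ∧ f x ∈ P := ⟨by rintro ⟨x, hx, rfl⟩; exact ⟨x.2, hx⟩, fun h => ⟨⟨_, h.1⟩, h.2, rfl⟩⟩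
  have hM : Syl 2 T M := hT.of_le (fun x hx => mM.2 ⟨c.TJ hT hx, mP hx⟩) fun x hx => c.le (mM.1 hx).1
  obtain ⟨m, m1, m2⟩ := hM.exists_conj_eq (hM.conj_of_norm (g := j) (mem_normalizer_of_conj_le (conj_le_iff.2
    fun x hx => mM.2 ⟨conj_mem_of_norm (le_norm J (c.KJ j1)) (mM.1 hx).1, by
      rw [c.cj (c.KJ j1) (mM.1 hx).1]; exact conj_mem_of_norm k1 (mM.1 hx).2⟩)))
  have n1 : m⁻¹ * j ∈ 𝐍(T) := norm_of_conj_eq (by rw [← conj_conj, m2, inv_conj_conj])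
  have n2 : m⁻¹ * j ∈ J := J.mul_mem (J.inv_mem (mM.1 m1).1) (c.KJ j1)
  obtain ⟨u, hu, o, ho, u2, o2, e, -⟩ := exists_pi_decomp {2} (m⁻¹ * j)
  have u3 := hT.ge_of_norm_p' (zpowers_le.2 (c.le (zpowers_le.2 n2 hu))) u2.zpowers.pgroup
    (zpowers_le.2 (zpowers_le.2 n1 hu)) (mem_zpowers u)
  have oJ := zpowers_le.2 n2 ho
  have oN : o ∈ 𝐍(T ⊓ K) := norm_inf (zpowers_le.2 (zpowers_le.2 n1 ho)) (zpowers_le.2 (c.Kn oJ)) (mem_zpowers o)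
  have fN : ∀ y ∈ J, y ∈ 𝐍(T ⊓ K) → f y ∈ 𝐍(P) := fun y hy e => mem_normalizer_of_conj_le (conj_le_iff.2 fun x hx => by
    obtain ⟨v, hv, rfl⟩ := sur hx
    rw [← c.cj hy (l hv)]; exact mP (conj_mem_of_norm e hv).1)
  have k3 : ∀ n ∈ 𝐍(P), ∃ g ∈ zpowers o, (f g)⁻¹ * n ∈ 𝐂(P) := fun n hn => by
    have : f j = f m * (f u * f o) := by
      rw [← c.mul u (c.TJ hT u3) o oJ, ← e, c.mul _ (J.inv_mem (mM.1 m1).1) j (c.KJ j1), c.inv (mM.1 m1).1]; group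
    have : zpowers (f j) ⊔ 𝐂(P) ≤ zpowers (f o) ⊔ 𝐂(P) := sup_le (zpowers_le.2 (this ▸ mul_mem (mem_sup_right
      (PC (mM.1 m1).2)) (mul_mem (mem_sup_right (PC (mP u3))) (mem_sup_left (mem_zpowers _))))) le_sup_right
    obtain ⟨_, ⟨i, rfl⟩, z, hz, rfl⟩ := (mem_sup_right_norm (norm_cent (zpowers_le.2 (fN o oJ oN)))).1 (this (k2 hn))
    exact ⟨o ^ i, ⟨i, rfl⟩, by simpa [c.zpow oJ] using hz⟩
  have zJ := zpowers_le.2 oJ
  have zN := zpowers_le.2 oN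
  refine ⟨o, c.t2, V2, e4 ▸ h4, tD hT, fun e => c.tn e.2, fun X hX a => ?_,
    Inv.odd_card_iff_not_two_dvd.2 (PiNat.p'_iff.1 o2), oN, c.le oJ, fun v hv v1 w hw w1 => ?_, fun g hg => ?_⟩
  · obtain ⟨g, -, e⟩ := hT.exists_conj_le hX a
    have tn := cent_le_norm _ (tD (K := K) hT)
    rw [← c.sup hT] at e
    refine ⟨by rw [← card_conj g X, ← card_sup_zp tn (fun e => c.tn e.2) (c.t2 ▸ one_mem _)]; exact card_le_of_le e,
      fun x hx => ?_⟩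
    have : g * x * g⁻¹ * (g * x * g⁻¹) = 1 := by
      have := (mem_sup_zp tn (c.t2 ▸ one_mem _)).1 (e (conj_mem_conj.2 hx))
      generalize g * x * g⁻¹ = y at this
      refine this.elim (V2 y) fun m => ?_
      have := V2 _ m
      rwa [mul_assoc, ← BG.mem_cent.1 (inv_mem (tD hT)) _ m, mul_assoc y, ← mul_inv_rev, c.t2, inv_one,
        mul_one] at this
    rwa [show g * x * g⁻¹ * (g * x * g⁻¹) = g * (x * x) * g⁻¹ by group, conj_eq_one_iff] at this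
  · obtain ⟨r, hr⟩ := isConj_iff.1 (hi _ _ (c.ord hT hv v1 (V2 v hv)) (c.ord hT hw w1 (V2 w hw)))
    obtain ⟨Q, rfl⟩ := Syl.top_iff_sylow.1 hP
    have := abelian_iff.2 PC
    obtain ⟨n, hn, e⟩ := exists_normalizer_conj_eq_of_abelian Q (mP hv.1) (hr ▸ mP hw.1)
    obtain ⟨g, hg, e'⟩ := k3 n hn
    exact ⟨g, hg, c.inj hT (conj_mem_of_norm (zN hg) hv) hw (by
      rw [c.cj (zJ hg) (l hv), ← act_eq e' (mP hv.1), e, hr])⟩
  · refine mem_normalizer_of_conj_le ?_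
    rw [conj_sup, conj_zpowers, conj_eq_of_norm (norm_cent le_rfl hg.2)]
    have y1 := conj_mem_of_norm (c.norm hg.1) oJ
    have y2 := conj_mem_of_norm (le_norm _ hg.2) oN
    generalize g * o * g⁻¹ = y at y1 y2
    obtain ⟨r, hr, e⟩ := k3 _ (fN y y1 y2)
    have : r⁻¹ * y ∈ 𝐂(T ⊓ K) := Inv.mem_centralizer_iff_conj.2 fun v hv => c.inj hT
      (conj_mem_of_norm (mul_mem (inv_mem (zN hr)) y2) hv) hv (by
        rw [c.cj (J.mul_mem (J.inv_mem (zJ hr)) y1) (l hv), c.mul _ (J.inv_mem (zJ hr)) y y1, c.inv (zJ hr)]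
        exact Inv.mem_centralizer_iff_conj.1 e _ (mP hv.1))
    exact sup_le (zpowers_le.2 (by simpa using mul_mem (mem_sup_left hr) (mem_sup_right this))) le_sup_right

end Ex

omit [Finite L] in
theorem exists_ex (ht : orderOf t = 2) (hZ : center L = ⊥)
    (e : ↥(closure {x : 𝐂[t] ⧸ oddCore 𝐂[t] | ∃ k : ℕ, orderOf x = 2 ^ k}) ≃* Multiplicative (ZMod 2) × L) :
    ∃ J K, ∃ f : G → L, Ex t J K f := by
  classical
  set B := closure {x : 𝐂[t] ⧸ oddCore 𝐂[t] | ∃ k : ℕ, orderOf x = 2 ^ k} with hB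
  let π := QuotientGroup.mk' (oddCore 𝐂[t])
  let J := (B.comap π).map (𝐂[t]).subtype
  have mJ : ∀ {x}, x ∈ J ↔ ∃ h : x ∈ 𝐂[t], π ⟨x, h⟩ ∈ B :=
    ⟨by rintro ⟨x, hx, rfl⟩; exact ⟨x.2, hx⟩, fun ⟨h, e⟩ => ⟨⟨_, h⟩, e, rfl⟩⟩
  have l : J ≤ 𝐂[t] := map_subtype_le _
  let ψ : J →* Multiplicative (ZMod 2) × L := e.toMonoidHom.comp ((π.comp (inclusion l)).codRestrict B
    fun x => (mJ.1 x.2).2)
  have sur : Function.Surjective ψ := fun y => by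
    obtain ⟨⟨b, hb⟩, rfl⟩ := e.surjective y
    obtain ⟨x, rfl⟩ := QuotientGroup.mk'_surjective _ b
    exact ⟨⟨x, mJ.2 ⟨x.2, hb⟩⟩, rfl⟩
  have ker : ∀ x : J, ψ x = 1 → Odd (orderOf (x : G)) := fun x hx => by
    have : inclusion l x ∈ oddCore 𝐂[t] := (QuotientGroup.eq_one_iff _).1
      (congrArg Subtype.val (e.injective (hx.trans (map_one e).symm)))
    exact (orderOf_coe (inclusion l x)).symm ▸ Inv.odd_orderOf_of_mem (Core.odd_card_oddCore _) this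
  have two : ∀ X : Subgroup G, IsPGroup 2 X → X ≤ 𝐂[t] → X ≤ J := fun X hX a x hx => mJ.2 ⟨a hx, subset_closure (by
    obtain ⟨n, hn⟩ := IsPGroup.iff_orderOf.1 hX ⟨x, hx⟩
    rw [orderOf_mk, ← orderOf_mk x (a hx)] at hn
    obtain ⟨k, -, hk⟩ := (Nat.dvd_prime_pow Nat.prime_two).1 (hn ▸ orderOf_map_dvd π ⟨x, a hx⟩)
    exact ⟨k, hk⟩)⟩
  have t2 := Inv.mul_self_of_orderOf ht
  have tJ := two _ (pg_zp t2) (zpowers_le.2 (self_mem_cent1 t)) (mem_zpowers t)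
  have e2 : (ψ ⟨t, tJ⟩).2 = 1 := mem_bot.1 (hZ ▸ mem_center_iff.2 fun y => by
    obtain ⟨x, hx⟩ := sur (1, y)
    have := congrArg (fun z => (ψ z).2) (show x * ⟨t, tJ⟩ = ⟨t, tJ⟩ * x from Subtype.ext (mem_cent1.1 (l x.2)))
    simpa [hx] using this)
  have e1 : (ψ ⟨t, tJ⟩).1 ≠ 1 := fun h => by
    have := ker ⟨t, tJ⟩ (Prod.ext h e2)
    rw [ht] at this; exact absurd this (by decide)
  let K := ((MonoidHom.fst _ _).comp ψ).ker.map J.subtype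
  have mK : ∀ {x}, x ∈ K ↔ ∃ h : x ∈ J, (ψ ⟨x, h⟩).1 = 1 :=
    ⟨by rintro ⟨x, hx, rfl⟩; exact ⟨x.2, hx⟩, fun ⟨h, e⟩ => ⟨⟨_, h⟩, e, rfl⟩⟩
  have : B.Normal := ⟨fun x hx g => closure_induction (p := fun x _ => g * x * g⁻¹ ∈ B)
    (fun x h => subset_closure (h.imp fun k hk => (Inv.orderOf_conj' g x).trans hk)) (by simp)
    (fun x y _ _ a b => by simpa [mul_assoc] using mul_mem a b) (fun x _ a => by simpa [mul_assoc] using inv_mem a) hx⟩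
  refine ⟨J, K, fun x => if h : x ∈ J then (ψ ⟨x, h⟩).2 else 1, t2, l, Core.le_normalizer_map_subtype _, two,
    fun x hx y hy => ?_, map_subtype_le _, Core.le_normalizer_map_subtype _, fun x hx => ?_,
    fun h => e1 (mK.1 h).2, by simp only [dif_pos tJ, e2], fun y => ?_, fun x hx h => ?_⟩
  · rw [dif_pos hx, dif_pos hy, dif_pos (J.mul_mem hx hy), ← Prod.snd_mul, ← map_mul]; rfl
  · by_cases h : (ψ ⟨x, hx⟩).1 = 1
    · exact .inl (mK.2 ⟨hx, h⟩)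
    · refine .inr (mK.2 ⟨J.mul_mem hx tJ, ?_⟩)
      rw [show (⟨x * t, _⟩ : J) = ⟨x, hx⟩ * ⟨t, tJ⟩ from rfl, map_mul, Prod.fst_mul]
      exact (by decide : ∀ a b : Multiplicative (ZMod 2), a ≠ 1 → b ≠ 1 → a * b = 1) _ _ h e1
  · obtain ⟨x, hx⟩ := sur (1, y)
    exact ⟨x, mK.2 ⟨x.2, congrArg Prod.fst hx⟩, by simp only [dif_pos x.2]; exact congrArg Prod.snd hx⟩
  · obtain ⟨h1, h2⟩ := mK.1 hx
    simp only [dif_pos h1] at h
    exact ker ⟨x, h1⟩ (Prod.ext h2 h)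

end Cfsg.Lib.TL2
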