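import Cfsg.Agent.Lib.FGS.Classes
import Cfsg.Agent.Lib.SR.Basic
import Cfsg.Agent.Lib.BG.T01_Coprime
import Cfsg.Agent.Lib.BG.Quo

/-! An involution `t` and an elementary abelian `V` with `⟨t⟩V` Sylow in `C(t) ∩ C(V)`: counting classes. -/

set_option autoImplicit false

namespace Cfsg.Lib.TL2

open Subgroup Cfsg.Lib.BG Cfsg.Lib.FGS Cfsg.Lib.SR
open Cfsg.Lib.Transfer hiding card_mul_relIndex

variable {G : Type*} [Group G] [Finite G] {P Q R V X Y : Subgroup G} {a d g h k t u v w x y : G}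

theorem dvd_ncard (H : Subgroup G) (n : ℕ) (S : Set G) (hS : ∀ g ∈ H, ∀ x ∈ S, g * x * g⁻¹ ∈ S)
    (hn : ∀ x ∈ S, n ∣ (hcl H x).ncard) : n ∣ S.ncard := by
  induction hm : S.ncard using Nat.strong_induction_on generalizing S with
  | _ m ih =>
  rcases S.eq_empty_or_nonempty with rfl | ⟨x, hx⟩
  · simp [← hm]
  have h1 : hcl H x ⊆ S := by rintro _ ⟨g, hg, rfl⟩; exact hS g hg x hx
  have h2 := Set.ncard_sdiff_add_ncard_of_subset h1
  have h3 : 0 < (hcl H x).ncard := (Set.ncard_pos).2 ⟨x, 1, H.one_mem, by simp⟩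
  rw [← hm, ← h2]
  refine dvd_add (ih _ (by omega) _ ?_ (fun y hy => hn y hy.1) rfl) (hn x hx)
  rintro g hg y ⟨y1, y2⟩
  refine ⟨hS g hg y y1, ?_⟩
  rintro ⟨c, hc, e⟩
  exact y2 ⟨g⁻¹ * c, H.mul_mem (H.inv_mem hg) hc, by
    rw [show g⁻¹ * c * x * (g⁻¹ * c)⁻¹ = g⁻¹ * (c * x * c⁻¹) * g by group, e]; group⟩

omit [Finite G] in
theorem isConj_cj (h : IsConj t u) (g : G) : IsConj t (g * u * g⁻¹) := h.trans (isConj_iff.2 ⟨g, rfl⟩)

/-- The standing hypothesis. -/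
structure Cl (t h : G) (V : Subgroup G) : Prop where
  t2 : t * t = 1
  V2 : ∀ v ∈ V, v * v = 1
  c4 : 4 ≤ Nat.card V
  tV : t ∈ 𝐂(V)
  nV : ∀ v ∈ V, ¬ IsConj t v
  nsq : ∀ x, ¬ IsConj t (x * x)
  loc : ∀ u, IsConj t u → ∀ X : Subgroup G, IsPGroup 2 X → V ≤ X → X ≤ 𝐂[u] ⊓ 𝐂(V) → Nat.card X ≤ 2 * Nat.card V
  ho : Odd (orderOf h)
  hN : h ∈ 𝐍(V)
  ht : h ∈ 𝐂[t]
  tr : ∀ v ∈ V, v ≠ 1 → ∀ w ∈ V, w ≠ 1 → ∃ g ∈ zpowers h, g * v * g⁻¹ = w

/-- A member of the climbing family: `Q` has index two in the `2`-group `Q⟨t⟩`. -/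
structure Fm (t h : G) (V Q : Subgroup G) : Prop where
  pg : IsPGroup 2 Q
  le : V ≤ Q
  cent : Q ≤ 𝐂(V)
  tN : t ∈ 𝐍(Q)
  hN : h ∈ 𝐍(Q)
  nQ : ∀ x ∈ Q, ¬ IsConj t x

namespace Cl

variable (c : Cl t h V)
include c

omit [Finite G] in
theorem sq (hu : IsConj t u) : u * u = 1 := by
  obtain ⟨g, rfl⟩ := isConj_iff.1 hu
  rw [show g * t * g⁻¹ * (g * t * g⁻¹) = g * (t * t) * g⁻¹ by group, c.t2]; group

omit [Finite G] in
theorem VC : V ≤ 𝐂(V) := le_cent_iff.2 fun _ ha _ hb => sq_comm c.V2 ha hb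

omit [Finite G] in
theorem nmem (hu : IsConj t u) : u ∉ V := fun e => c.nV u e hu

omit [Finite G] in
theorem t1 : t ≠ 1 := fun e => c.nV 1 V.one_mem (e ▸ IsConj.refl _)

omit [Finite G] in
theorem exists_ne : ∃ v ∈ V, v ≠ 1 := exists_ne_one fun e => by have := c.c4; simp [e] at this

/-- `C_X(u) = ⟨u⟩V`. -/
theorem cent_eq (hu : IsConj t u) (hX : IsPGroup 2 X) (h1 : V ≤ X) (h2 : X ≤ 𝐂(V)) (h3 : u ∈ X) :
    X ⊓ 𝐂[u] = V ⊔ zpowers u := by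
  have hn : u ∈ 𝐍(V) := cent_le_norm V (h2 h3)
  have e := card_sup_zp hn (c.nmem hu) (c.sq hu ▸ V.one_mem)
  have l : V ⊔ zpowers u ≤ X ⊓ 𝐂[u] := sup_le (le_inf h1 (le_cent1_iff.2 (h2 h3)))
    (zpowers_le.2 ⟨h3, self_mem_cent1 u⟩)
  refine (eq_of_le_of_card_le l ?_).symm
  rw [e]
  exact c.loc u hu _ (pgroup_of_le hX inf_le_left) (le_sup_left.trans l)
    (le_inf inf_le_right (inf_le_left.trans h2))

theorem card_cent (hu : IsConj t u) (hX : IsPGroup 2 X) (h1 : V ≤ X) (h2 : X ≤ 𝐂(V)) (h3 : u ∈ X) :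
    Nat.card ↥(X ⊓ 𝐂[u]) = 2 * Nat.card V := by
  rw [c.cent_eq hu hX h1 h2 h3]
  exact card_sup_zp (cent_le_norm V (h2 h3)) (c.nmem hu) (c.sq hu ▸ V.one_mem)

theorem mem_cent (hu : IsConj t u) (hX : IsPGroup 2 X) (h1 : V ≤ X) (h2 : X ≤ 𝐂(V)) (h3 : u ∈ X)
    (hx : x ∈ X) (e : x * u = u * x) : x ∈ V ∨ x * u ∈ V := by
  have : x ∈ X ⊓ 𝐂[u] := ⟨hx, mem_cent1.2 e⟩
  rw [c.cent_eq hu hX h1 h2 h3, mem_sup_zp (cent_le_norm V (h2 h3)) (c.sq hu ▸ V.one_mem),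
    inv_self (c.sq hu)] at this
  exact this

omit [Finite G] in
theorem fixV (hk : k ∈ zpowers h) (hv : v ∈ V) (h1 : v ≠ 1) (e : k * v = v * k) : k ∈ 𝐂(V) := by
  refine BG.mem_cent.2 fun w hw => ?_
  by_cases h2 : w = 1
  · simp [h2]
  obtain ⟨g, hg, rfl⟩ := c.tr v hv h1 w hw h2
  have : g * k = k * g := by
    obtain ⟨i, rfl⟩ := hg; obtain ⟨j, rfl⟩ := hk; exact zpow_mul_comm h i j
  calc g * v * g⁻¹ * k = g * v * k * g⁻¹ * (g * k⁻¹ * g⁻¹ * k) := by group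
    _ = k * (g * v * g⁻¹) := by rw [mul_assoc g v k, ← e, ← mul_assoc g k, this,
        show g * k⁻¹ * g⁻¹ * k = g * (g * k)⁻¹ * k by group, this]; group

omit [Finite G] in
theorem zt (hk : k ∈ zpowers h) : k * t = t * k := mem_cent1.1 (zpowers_le.2 c.ht hk)

/-- A power of `h` moving `V` fixes only `1` and `t`. -/
theorem fix (hX : IsPGroup 2 X) (h1 : V ≤ X) (h2 : X ≤ 𝐂(V)) (h3 : t ∈ X) (hk : k ∈ zpowers h)
    (hk' : k ∉ 𝐂(V)) (hx : x ∈ X) (e : k * x = x * k) : x = 1 ∨ x = t := by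
  have key : ∀ y ∈ X ⊓ 𝐂[k], y * t = t * y → y ∈ zpowers t := by
    intro y hy e
    have e' := mem_cent1.1 hy.2
    rcases c.mem_cent (IsConj.refl t) hX h1 h2 h3 hy.1 e with h4 | h4
    · by_contra h5
      exact hk' (c.fixV hk h4 (fun e => h5 (e ▸ one_mem _)) e'.symm)
    · by_contra h5
      refine hk' (c.fixV hk h4 (fun e => h5 ?_) ?_)
      · rw [eq_inv_of_mul_eq_one_left e]; exact inv_mem (mem_zpowers t)
      · rw [← mul_assoc, ← e', mul_assoc, c.zt hk, mul_assoc]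
  have l : zpowers t ≤ X ⊓ 𝐂[k] := zpowers_le.2 ⟨h3, mem_cent1.2 (c.zt hk).symm⟩
  have : zpowers t = X ⊓ 𝐂[k] := by
    by_contra hne
    obtain ⟨y, ⟨y1, y2⟩, y3⟩ := SetLike.exists_of_lt (lt_inf_normalizer_of_lt
      (pgroup_of_le hX inf_le_left) (lt_of_le_of_ne l hne))
    refine y3 (key y y1 ?_)
    rcases (Inv.mem_zpowers_iff_of_mul_self c.t2).1 (conj_mem_of_norm y2 (mem_zpowers t)) with e | e
    · exact absurd e (Inv.conj_ne_one c.t1)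
    · exact mul_inv_eq_iff_eq_mul.1 e
  exact (Inv.mem_zpowers_iff_of_mul_self c.t2).1 (this ▸ ⟨hx, mem_cent1.2 e.symm⟩)

/-- An element of odd order centralizing `⟨t⟩V` centralizes `X`. -/
theorem cent_of_odd (hX : IsPGroup 2 X) (h1 : V ≤ X) (h2 : X ≤ 𝐂(V)) (h3 : t ∈ X) (ho : Odd (orderOf k))
    (hk : k ∈ 𝐍(X)) (k1 : k ∈ 𝐂(V)) (k2 : k ∈ 𝐂[t]) : k ∈ 𝐂(X) := by
  have e := c.cent_eq (IsConj.refl t) hX h1 h2 h3
  refine Coprime.le_centralizer_of_self_centralizing (A := zpowers k) (B := X ⊓ 𝐂[t]) (pgroup_nil hX)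
    (zpowers_le.2 hk) (Coprime.coprime_card_of_isPGroup hX ?_) inf_le_left ?_ ?_ (mem_zpowers k)
  · rw [Nat.card_zpowers]; exact (Nat.coprime_two_right).2 ho
  · rw [e]; exact zpowers_le.2 (le_cent_sup (zpowers_le.2 k1) (by rw [cent_zpowers]; exact zpowers_le.2 k2)
      (mem_zpowers k))
  · exact le_inf inf_le_left (inf_le_right.trans (cent_le_cent1 ⟨h3, self_mem_cent1 t⟩))

omit [Finite G] in
theorem odd_z (hk : k ∈ zpowers h) : Odd (orderOf k) := c.ho.of_dvd_nat (orderOf_dvd_of_mem_zpowers hk)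

omit [Finite G] in
theorem relIndex_z : 𝐂(V).relIndex (zpowers h) = Nat.card V - 1 := by
  obtain ⟨v, hv, h1⟩ := c.exists_ne
  have e1 : hcl (zpowers h) v = (V : Set G) \ {1} := by
    ext w
    constructor
    · rintro ⟨g, hg, rfl⟩
      exact ⟨conj_mem_of_norm (zpowers_le.2 c.hN hg) hv, Inv.conj_ne_one h1⟩
    · rintro ⟨w1, w2⟩; exact c.tr v hv h1 w w1 w2
  have e2 : 𝐂[v] ⊓ zpowers h = 𝐂(V) ⊓ zpowers h := le_antisymm
    (fun k hk => ⟨c.fixV hk.2 hv h1 (mem_cent1.1 hk.1), hk.2⟩) (inf_le_inf_right _ (cent_le_cent1 hv))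
  rw [← inf_relIndex_right, ← e2, inf_relIndex_right, ← ncard_hcl, e1,
    Set.ncard_sdiff_singleton_of_mem V.one_mem]
  rfl

/-- Orbits of `⟨h⟩` on `X ∖ ⟨t⟩` have length `|V| - 1`. -/
theorem dvd (hX : IsPGroup 2 X) (h1 : V ≤ X) (h2 : X ≤ 𝐂(V)) (h3 : t ∈ X) {S : Set G}
    (hS : ∀ x ∈ S, x ∈ X ∧ x ≠ 1 ∧ x ≠ t) (hi : ∀ x ∈ S, h * x * h⁻¹ ∈ S) : Nat.card V - 1 ∣ S.ncard := by
  refine dvd_ncard (zpowers h) _ S ?_ fun x hx => ?_
  · intro g hg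
    obtain ⟨n, rfl⟩ := mem_powers_iff_mem_zpowers.2 hg
    induction n with
    | zero => simp
    | succ n ih =>
      intro x hx
      have := hi _ (ih (pow_mem (mem_zpowers h) n) x hx)
      simp only at this ⊢
      rwa [show h ^ (n + 1) * x * (h ^ (n + 1))⁻¹ = h * (h ^ n * x * (h ^ n)⁻¹) * h⁻¹ by group]
  · rw [ncard_hcl, ← c.relIndex_z, ← inf_relIndex_right 𝐂[x]]
    refine relIndex_dvd_left (fun k hk => ?_) _
    by_contra hn
    obtain ⟨x1, x2, x3⟩ := hS x hx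
    exact (c.fix hX h1 h2 h3 hk.2 hn x1 (mem_cent1.1 hk.1)).elim x2 x3

theorem hC : h ∉ 𝐂(V) := fun e => by
  have := c.relIndex_z
  rw [relIndex_eq_one.2 (zpowers_le.2 e)] at this
  have := c.c4; omega

end Cl

namespace Fm

variable (c : Cl t h V) (f : Fm t h V Q)
include c f

omit [Finite G] c in
theorem tn : t ∉ Q := fun e => f.nQ t e (IsConj.refl t)

omit [Finite G] in
theorem mem : x ∈ Q ⊔ zpowers t ↔ x ∈ Q ∨ x * t ∈ Q := by
  rw [mem_sup_zp f.tN (c.t2 ▸ Q.one_mem), inv_self c.t2]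

omit [Finite G] in
theorem card : Nat.card ↥(Q ⊔ zpowers t) = 2 * Nat.card Q := card_sup_zp f.tN f.tn (c.t2 ▸ Q.one_mem)

omit [Finite G] in
theorem pgP : IsPGroup 2 ↥(Q ⊔ zpowers t) :=
  pgroup_sup f.pg (pg_sq fun e he => by
    rcases (Inv.mem_zpowers_iff_of_mul_self c.t2).1 he with rfl | rfl
    exacts [one_mul 1, c.t2]) (zpowers_le.2 f.tN)

omit [Finite G] c in
theorem leP : V ≤ Q ⊔ zpowers t := f.le.trans le_sup_left

omit [Finite G] in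
theorem centP : Q ⊔ zpowers t ≤ 𝐂(V) := sup_le f.cent (zpowers_le.2 c.tV)

omit [Finite G] c f in
theorem tP : t ∈ Q ⊔ zpowers t := mem_sup_right (mem_zpowers t)

omit [Finite G] in
theorem hP : h ∈ 𝐍(Q ⊔ zpowers t) := norm_sup (zpowers_le.2 f.hN)
  (norm_of_cent (by rw [cent_zpowers]; exact zpowers_le.2 c.ht)) (mem_zpowers h)

omit [Finite G] c in
theorem PN : Q ⊔ zpowers t ≤ 𝐍(Q) := sup_le_norm_left (zpowers_le.2 f.tN)

omit [Finite G] in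
theorem mul_mem (hu : IsConj t u) (h1 : u ∈ Q ⊔ zpowers t) : u * t ∈ Q :=
  ((f.mem c).1 h1).resolve_left fun e => f.nQ u e hu

theorem dvd_hcl (h1 : Y ≤ 𝐍(Q ⊔ zpowers t)) (h2 : h ∈ 𝐍(Y)) : Nat.card V - 1 ∣ (hcl Y t).ncard - 1 := by
  rw [← Set.ncard_sdiff_singleton_of_mem (show t ∈ hcl Y t from ⟨1, Y.one_mem, by simp⟩)]
  refine c.dvd (f.pgP c) f.leP (f.centP c) tP ?_ ?_
  · rintro _ ⟨⟨y, hy, rfl⟩, x2⟩
    exact ⟨conj_mem_of_norm (h1 hy) tP, Inv.conj_ne_one c.t1, x2⟩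
  · have e := mem_cent1.1 c.ht
    rintro _ ⟨⟨y, hy, rfl⟩, x2⟩
    refine ⟨⟨h * y * h⁻¹, conj_mem_of_norm h2 hy, ?_⟩, fun e' => x2 ?_⟩
    · rw [show h * y * h⁻¹ * t * (h * y * h⁻¹)⁻¹ = h * y * h⁻¹ * (t * h) * y⁻¹ * h⁻¹ by group, ← e]; group
    · rw [Set.mem_singleton_iff, mul_inv_eq_iff_eq_mul, ← e, mul_right_inj] at e'; exact e'

theorem ncard_P : (hcl (Q ⊔ zpowers t) t).ncard * Nat.card V = Nat.card Q := by
  have := ncard_hcl_mul (Q ⊔ zpowers t) t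
  rw [c.card_cent (IsConj.refl t) (f.pgP c) f.leP (f.centP c) tP, f.card c] at this
  linarith

/-- Either `Q = V` or `|Q| ≥ |V|²`. -/
theorem sq_le (hne : V ≠ Q) : Nat.card V * Nat.card V ≤ Nat.card Q := by
  have h1 := f.ncard_P c
  have h2 := f.dvd_hcl c (le_norm _) (norm_norm (zpowers_le.2 (f.hP c)) |> fun _ => f.hP c)
  have h3 := card_lt_of_lt (lt_of_le_of_ne f.le hne)
  have h4 := c.c4
  generalize (hcl (Q ⊔ zpowers t) t).ncard = m at h1 h2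
  have : 2 ≤ m := by
    by_contra hm
    interval_cases m <;> omega
  have := Nat.le_of_dvd (by omega) h2
  rw [← h1]; exact Nat.mul_le_mul_right _ (by omega)

/-- The number of `P`-classes in the `Y`-class of `t` is `1` or `|V|`. -/
theorem jj (h0 : Q ⊔ zpowers t ≤ Y) (h1 : Y ≤ 𝐍(Q ⊔ zpowers t)) (h2 : h ∈ 𝐍(Y)) :
    (Q ⊔ zpowers t) ⊔ (Y ⊓ 𝐂[t]) = Y ∨ (((Q ⊔ zpowers t) ⊔ (Y ⊓ 𝐂[t])).relIndex Y = Nat.card V ∧
      ∀ a ∈ Q, a * t ∈ hcl Y t) := by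
  set P := Q ⊔ zpowers t with hP
  have l : P ⊔ (Y ⊓ 𝐂[t]) ≤ Y := sup_le h0 inf_le_left
  have e1 : hcl (P ⊔ (Y ⊓ 𝐂[t])) t = hcl P t := by
    refine Set.Subset.antisymm ?_ fun x ⟨g, hg, e⟩ => ⟨g, mem_sup_left hg, e⟩
    rintro _ ⟨g, hg, rfl⟩
    obtain ⟨r, hr, y, hy, rfl⟩ := (mem_sup_left_norm (inf_le_left.trans h1)).1 hg
    exact ⟨r, hr, by rw [mul_assoc r y t, mem_cent1.1 hy.2]; group⟩
  have e2 : (hcl Y t).ncard = (hcl P t).ncard * (P ⊔ (Y ⊓ 𝐂[t])).relIndex Y := by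
    rw [← e1, ncard_hcl, ncard_hcl, ← inf_relIndex_left, ← relIndex_mul_relIndex _ _ _ le_sup_right l]
    congr 1
    rw [← inf_relIndex_right, ← inf_relIndex_right 𝐂[t], inf_right_comm, inf_eq_right.2 l, inf_comm]
  have s : hcl Y t ⊆ (· * t) '' (Q : Set G) := by
    rintro _ ⟨y, hy, rfl⟩
    exact ⟨_, f.mul_mem c (isConj_cj (IsConj.refl t) y) (conj_mem_of_norm (h1 hy) tP), by
      simp only [mul_assoc, c.t2, mul_one]⟩
  have e3 : ((· * t) '' (Q : Set G)).ncard = Nat.card Q :=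
    Set.ncard_image_of_injective _ (mul_left_injective t)
  have e4 := Set.ncard_le_ncard s
  have d1 := f.dvd_hcl c h1 h2
  have d2 := f.dvd_hcl c (le_norm _) (f.hP c)
  have e5 := f.ncard_P c
  have j0 : (P ⊔ (Y ⊓ 𝐂[t])).relIndex Y ≠ 0 := index_ne_zero_of_finite
  have q0 : 0 < Nat.card Q := Nat.card_pos
  have h4 := c.c4
  rw [← hP] at d2 e5
  generalize hj : (P ⊔ (Y ⊓ 𝐂[t])).relIndex Y = j at e2 j0
  generalize (hcl P t).ncard = m at e2 d2 e5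
  have m0 : 0 < m := Nat.pos_of_ne_zero fun e => by rw [e] at e5; omega
  have : Nat.card V - 1 ∣ j - 1 := by
    have : m * j - 1 = (m - 1) * j + (j - 1) := by
      obtain ⟨m, rfl⟩ : ∃ k, m = k + 1 := ⟨m - 1, by omega⟩
      obtain ⟨j, rfl⟩ : ∃ k, j = k + 1 := ⟨j - 1, by omega⟩
      simp only [Nat.add_sub_cancel]; ring_nf; omega
    rw [e2, this] at d1
    exact (Nat.dvd_add_right (d2.mul_right j)).1 d1
  by_cases j1 : j = 1
  · exact .inl (le_antisymm l (relIndex_eq_one.1 (hj.trans j1)))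
  have := Nat.le_of_dvd (by omega) this
  have j2 : j ≤ Nat.card V := Nat.le_of_mul_le_mul_left (by omega) m0
  obtain rfl : j = Nat.card V := by omega
  refine .inr ⟨rfl, fun a ha => ?_⟩
  rw [Set.eq_of_subset_of_ncard_le s (by omega)]
  exact ⟨a, ha, rfl⟩

omit [Finite G] f in
theorem inv_of (H : ∀ a ∈ Q, IsConj t (a * t)) (ha : a ∈ Q) : t * a * t⁻¹ = a⁻¹ := by
  have := c.sq (H a ha)
  rw [inv_self c.t2, eq_inv_iff_mul_eq_one]
  calc t * a * t * a = a⁻¹ * (a * t * (a * t)) * a := by group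
    _ = 1 := by rw [this]; group

omit [Finite G] in
theorem comm_of (H : ∀ a ∈ Q, IsConj t (a * t)) (ha : a ∈ Q) (hx : x ∈ Q) : a * x = x * a := by
  have := inv_of c H (Q.mul_mem ha hx)
  rw [show t * (a * x) * t⁻¹ = t * a * t⁻¹ * (t * x * t⁻¹) by group, inv_of c H ha, inv_of c H hx,
    ← mul_inv_rev, inv_inj] at this
  exact this.symm

omit [Finite G] in
theorem norm_of (H : ∀ a ∈ Q, IsConj t (a * t)) : 𝐍(Q ⊔ zpowers t) ≤ 𝐍(Q) :=
  le_norm_iff.2 fun g hg x hx => ((f.mem c).1 (conj_mem_of_norm hg (mem_sup_left hx))).resolve_right fun e => by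
    have := isConj_cj (H _ e) g⁻¹
    rw [mul_assoc _ t, c.t2] at this
    exact f.nQ x hx (by simpa [mul_assoc] using this)

theorem mem_V (H : ∀ a ∈ Q, IsConj t (a * t)) (ha : a ∈ Q) (e : a * a = 1) : a ∈ V :=
  (c.mem_cent (IsConj.refl t) (f.pgP c) f.leP (f.centP c) tP (mem_sup_left ha) (by
    have := inv_of c H ha
    rw [inv_self e, mul_inv_eq_iff_eq_mul] at this; exact this.symm)).resolve_right
    fun e' => f.tn (by simpa using Q.mul_mem (Q.inv_mem ha) (f.le e'))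

end Fm

end Cfsg.Lib.TL2
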