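import Cfsg.Agent.Lib.TL2.A
import Cfsg.Agent.Lib.PSL2.Count

/-! Climbing to a Sylow 2-subgroup of `C(V)`. -/

set_option autoImplicit false

namespace Cfsg.Lib.TL2

open Subgroup Cfsg.Lib.BG Cfsg.Lib.FGS Cfsg.Lib.SR
open Cfsg.Lib.Transfer hiding card_mul_relIndex

variable {G : Type*} [Group G] [Finite G] {K P Q R V X Y : Subgroup G} {a d g h k t u v w x y : G}

theorem fpf_surj (hN : h ∈ 𝐍(Q)) (H : ∀ x ∈ Q, h * x = x * h → x = 1) (ha : a ∈ Q) :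
    ∃ x ∈ Q, a = x⁻¹ * (h * x * h⁻¹) := by
  let φ : Q → Q := fun x => ⟨(x : G)⁻¹ * (h * x * h⁻¹), Q.mul_mem (Q.inv_mem x.2) (conj_mem_of_norm hN x.2)⟩
  have : Function.Injective φ := fun x y e => by
    have e' : (x : G)⁻¹ * (h * x * h⁻¹) = (y : G)⁻¹ * (h * y * h⁻¹) := congrArg Subtype.val e
    have := H (y * (x : G)⁻¹) (Q.mul_mem y.2 (Q.inv_mem x.2)) (by
      calc h * (y * (x : G)⁻¹) = y * ((y : G)⁻¹ * (h * y * h⁻¹)) * h * (x : G)⁻¹ := by group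
        _ = _ := by rw [← e']; group)
    exact Subtype.ext (mul_inv_eq_one.1 this).symm
  obtain ⟨x, hx⟩ := Finite.surjective_of_injective this ⟨a, ha⟩
  exact ⟨x, x.2, (congrArg Subtype.val hx).symm⟩

theorem fpf_tri (hN : h ∈ 𝐍(Q)) (H : ∀ x ∈ Q, h * x = x * h → x = 1) (h3 : h ^ 3 ∈ 𝐂(Q)) (ha : a ∈ Q) :
    a * (h * a * h⁻¹) * (h * (h * a * h⁻¹) * h⁻¹) = 1 := by
  obtain ⟨x, hx, rfl⟩ := fpf_surj hN H ha
  calc _ = x⁻¹ * (h ^ 3 * x) * (h ^ 3)⁻¹ := by simp only [pow_succ, pow_zero]; group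
    _ = 1 := by rw [← BG.mem_cent.1 h3 x hx]; group

omit [Finite G] in
theorem pow_act (e : h⁻¹ * k ∈ 𝐂(V)) (hN : h ∈ 𝐍(V)) (n : ℕ) : (h ^ n)⁻¹ * k ^ n ∈ 𝐂(V) := by
  induction n with
  | zero => simp
  | succ n ih =>
    rw [show (h ^ (n + 1))⁻¹ * k ^ (n + 1) = h⁻¹ * ((h ^ n)⁻¹ * k ^ n) * h * (h⁻¹ * k) by group]
    exact mul_mem (conj_mem_of_norm' (norm_cent (zpowers_le.2 hN) (mem_zpowers h)) ih) e

omit [Finite G] in
theorem act_eq (e : h⁻¹ * k ∈ 𝐂(V)) (hv : v ∈ V) : k * v * k⁻¹ = h * v * h⁻¹ := by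
  calc k * v * k⁻¹ = h * ((h⁻¹ * k) * v) * k⁻¹ := by group
    _ = _ := by rw [← BG.mem_cent.1 e v hv]; group

theorem Cl.congr (c : Cl t h V) (e : h⁻¹ * k ∈ 𝐂(V)) (ho : Odd (orderOf k)) (hk : k ∈ 𝐂[t]) : Cl t k V :=
  { c with
    ho := ho
    hN := by simpa using mul_mem c.hN (cent_le_norm V e)
    ht := hk
    tr := fun v hv h1 w hw h2 => by
      obtain ⟨g, hg, rfl⟩ := c.tr v hv h1 w hw h2
      obtain ⟨n, rfl⟩ := mem_powers_iff_mem_zpowers.2 hg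
      exact ⟨k ^ n, pow_mem (mem_zpowers k) n, act_eq (pow_act e c.hN n) hv⟩ }

theorem exists_odd_part (e : h⁻¹ * k ∈ 𝐂(V)) (hN : h ∈ 𝐍(V)) (ho : Odd (orderOf h)) :
    ∃ k' ∈ zpowers k, Odd (orderOf k') ∧ h⁻¹ * k' ∈ 𝐂(V) := by
  obtain ⟨s, hs⟩ := Inv.exists_pow_two_pow_odd k
  obtain ⟨n, hn⟩ := exists_pow_eq_self_of_coprime (x := h) (n := 2 ^ s)
    (Nat.Coprime.pow_left s (Nat.coprime_two_left.2 ho))
  refine ⟨(k ^ 2 ^ s) ^ n, pow_mem (pow_mem (mem_zpowers k) _) _, hs.of_dvd_nat (orderOf_pow_dvd n), ?_⟩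
  have := pow_act (pow_act' e hN) (pow_mem hN (2 ^ s)) n
  rwa [hn] at this
where pow_act' {s : ℕ} (e : h⁻¹ * k ∈ 𝐂(V)) (hN : h ∈ 𝐍(V)) : (h ^ s)⁻¹ * k ^ s ∈ 𝐂(V) := pow_act e hN s

omit [Finite G] in
theorem Cl.pow_mem_cent (c : Cl t h V) : h ^ (Nat.card V - 1) ∈ 𝐂(V) := by
  have : (𝐂(V).subgroupOf (zpowers h)).Normal := inferInstance
  rw [← c.relIndex_z]
  exact pow_index_mem (𝐂(V).subgroupOf (zpowers h)) ⟨h, mem_zpowers h⟩

theorem Cl.sylU (c : Cl t h V) : Syl 2 (V ⊔ zpowers t) (𝐂(V) ⊓ 𝐂[t]) := by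
  have l : V ⊔ zpowers t ≤ 𝐂(V) ⊓ 𝐂[t] := sup_le (le_inf c.VC (le_cent1_iff.2 c.tV))
    (zpowers_le.2 ⟨c.tV, self_mem_cent1 t⟩)
  have f : Fm t h V V := ⟨pg_sq c.V2, le_rfl, c.VC, cent_le_norm V c.tV, c.hN, c.nV⟩
  refine Syl.of_max l (f.pgP c) fun X hX h1 h2 => ?_
  rw [← c.cent_eq (IsConj.refl t) hX (le_sup_left.trans h1) (h2.trans inf_le_left) (h1 Fm.tP)]
  exact le_inf le_rfl (h2.trans inf_le_right)

namespace Fm

variable (c : Cl t h V) (f : Fm t h V Q)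
include c f

theorem jj2 (h0 : Q ⊔ zpowers t ≤ Y) (h1 : Y ≤ 𝐍(Q ⊔ zpowers t)) (h2 : h ∈ 𝐍(Y))
    (hK : Syl 2 (V ⊔ zpowers t) (Y ⊓ 𝐂[t])) (hn : ¬ Syl 2 (Q ⊔ zpowers t) Y) :
    ((Q ⊔ zpowers t) ⊔ (Y ⊓ 𝐂[t])).relIndex Y = Nat.card V ∧ ∀ a ∈ Q, a * t ∈ hcl Y t := by
  refine (f.jj c h0 h1 h2).resolve_left fun e => hn (Syl.mk' h0 (f.pgP c) fun hd => hK.not_dvd' ?_)
  rw [Inv.relIndex_eq_of_mul (B := Y ⊓ 𝐂[t]) inf_le_left fun g hg => ?_] at hd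
  · exact hd.trans (relIndex_dvd_left (sup_le_sup_right f.le _) _)
  · rw [← e, sup_comm] at hg
    obtain ⟨y, hy, n, hn, rfl⟩ := (mem_sup_right_norm (inf_le_left.trans h1)).1 hg
    exact ⟨y, hy, n, hn, rfl⟩

omit f in
/-- A Sylow 2-subgroup of `Y` is transitive on the `Y`-class of `t`. -/
theorem hcl_syl (h1 : Y ≤ 𝐍(Q ⊔ zpowers t)) (hR : Syl 2 R Y) (h0 : Q ⊔ zpowers t ≤ R)
    (hj : ((Q ⊔ zpowers t) ⊔ (Y ⊓ 𝐂[t])).relIndex Y = Nat.card V) (hx : x ∈ hcl Y t) : x ∈ hcl R t := by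
  obtain ⟨y, hy, rfl⟩ := hx
  obtain ⟨n, hn⟩ := IsPGroup.iff_card.1 (pg_sq c.V2)
  obtain ⟨r, hr, b, hb, rfl⟩ := Coprime.exists_mul_of_coprime_relIndex hR.le (K := (Q ⊔ zpowers t) ⊔ (Y ⊓ 𝐂[t]))
    (by rw [hj, hn]; exact ((Nat.coprime_two_right.2 (Inv.odd_card_iff_not_two_dvd.2 hR.not_dvd')).pow_right n)) hy
  obtain ⟨p, hp, z, hz, rfl⟩ := (mem_sup_left_norm (inf_le_left.trans h1)).1 hb
  exact ⟨r * p, R.mul_mem hr (h0 hp), by
    rw [show r * (p * z) * t = r * p * (z * t) by group, mem_cent1.1 hz.2]; group⟩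

omit [Finite G] in
theorem card_syl (h1 : R ≤ 𝐍(Q ⊔ zpowers t)) (H : ∀ a ∈ Q, a * t ∈ hcl R t) :
    (hcl R t).ncard = Nat.card Q := by
  rw [show hcl R t = (· * t) '' (Q : Set G) from Set.Subset.antisymm ?_ ?_]
  · exact Set.ncard_image_of_injective _ (mul_left_injective t)
  · rintro _ ⟨y, hy, rfl⟩
    exact ⟨_, f.mul_mem c (isConj_cj (IsConj.refl t) y) (conj_mem_of_norm (h1 hy) tP), by
      simp only [mul_assoc, c.t2, mul_one]⟩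
  · rintro _ ⟨a, ha, rfl⟩; exact H a ha

end Fm

/-- One step up. -/
structure Up (t h : G) (V Q R : Subgroup G) : Prop where
  pg : IsPGroup 2 R
  le : Q ⊔ zpowers t ≤ R
  cent : R ≤ 𝐂(V)
  norm : R ≤ 𝐍(Q ⊔ zpowers t)
  hN : h ∈ 𝐍(R)
  all : ∀ a ∈ Q, a * t ∈ hcl R t

namespace Up

variable (c : Cl t h V) (f : Fm t h V Q) (U : Up t h V Q R)
include c f U

omit [Finite G] c f in
theorem all' : ∀ a ∈ Q, IsConj t (a * t) := fun a ha => by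
  obtain ⟨g, -, e⟩ := U.all a ha; exact isConj_iff.2 ⟨g, e⟩

theorem card : Nat.card R = 2 * Nat.card V * Nat.card Q := by
  have := ncard_hcl_mul R t
  rw [c.card_cent (IsConj.refl t) U.pg (f.leP.trans U.le) U.cent (U.le Fm.tP), f.card_syl c U.norm U.all] at this
  linarith

theorem sq (hx : x ∈ R) : x * x ∈ Q := by
  have l : (Q ⊔ zpowers t) ⊔ 𝚽(R) ≤ R := sup_le U.le (map_subtype_le _)
  have e : (Q ⊔ zpowers t) ⊔ (((Q ⊔ zpowers t) ⊔ 𝚽(R)) ⊓ 𝐂[t]) = Q ⊔ zpowers t := by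
    refine sup_eq_left.2 ((inf_le_inf_right _ l).trans ?_)
    rw [c.cent_eq (IsConj.refl t) U.pg (f.leP.trans U.le) U.cent (U.le Fm.tP)]
    exact sup_le_sup_right f.le _
  have := f.jj c le_sup_left (l.trans U.norm)
    (norm_sup (zpowers_le.2 (f.hP c)) (norm_Phi (zpowers_le.2 U.hN)) (mem_zpowers h))
  rw [e] at this
  rcases this with e | ⟨e, -⟩
  · have : x ^ 2 ∈ Q ⊔ zpowers t := e ▸ mem_sup_right (PGroup.pow_mem_map_subtype_frattini U.pg hx)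
    rw [_root_.sq] at this
    exact ((f.mem c).1 this).resolve_right fun e => c.nsq x (by
      simpa only [mul_assoc, c.t2, mul_one] using U.all' _ e)
  · have h1 := card_mul_relIndex (le_sup_left : Q ⊔ zpowers t ≤ (Q ⊔ zpowers t) ⊔ 𝚽(R))
    have h2 := U.card c f
    rw [e, f.card c] at h1
    have := PGroup.eq_of_sup_map_subtype_frattini U.le (eq_of_le_of_card_le l (by linarith)).ge
    rw [← this, f.card c] at h2
    have := c.c4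
    have : 0 < Nat.card Q := Nat.card_pos
    nlinarith

omit [Finite G] in
theorem RN : R ≤ 𝐍(Q) := U.norm.trans (f.norm_of c U.all')

theorem cm (hx : x ∈ R) (hy : y ∈ R) : x * y * x⁻¹ * y⁻¹ ∈ Q := by
  have := Q.mul_mem (Q.mul_mem (U.sq c f (R.mul_mem hx hy)) (conj_mem_of_norm' (U.RN c f hy)
    (U.sq c f (R.inv_mem hx)))) (U.sq c f (R.inv_mem hy))
  rwa [show x * y * (x * y) * (y⁻¹ * (x⁻¹ * x⁻¹) * y) * (y⁻¹ * y⁻¹) = x * y * x⁻¹ * y⁻¹ by group] at this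

theorem exists_compl : ∃ W, Q ≤ W ∧ t ∉ W ∧ W ⊔ zpowers t = R ∧ h ∈ 𝐍(W) := by
  have hz : zpowers h ≤ 𝐍(Q) := zpowers_le.2 f.hN
  obtain ⟨W, d, hW⟩ := Maschke_abelem (p := 2) (A := quo (zpowers h) Q) (V := quo R Q)
    (U := quo (Q ⊔ zpowers t) Q) (Inv.elemAb_two_iff.2 (by
      rintro _ ⟨x, hx, rfl⟩
      rw [← map_mul]
      have := U.sq c f (show (x : G) ∈ R from hx)
      exact (QuotientGroup.eq_one_iff _).2 this))
    (Nat.coprime_two_right.2 (odd_quo (by rw [Nat.card_zpowers]; exact c.ho) Q)) (quo_mono U.le Q)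
    (quo_norm (zpowers_le.2 U.hN) Q) (quo_norm (zpowers_le.2 (f.hP c)) Q)
  refine ⟨copre Q W, le_copre W, fun ht => f.tn ?_, ?_, norm_copre hz hW (mem_zpowers h)⟩
  · have : t ∈ copre Q (quo (Q ⊔ zpowers t) Q ⊓ W) := by
      rw [copre_inf, copre_quo_of_le le_sup_left f.PN]; exact ⟨Fm.tP, ht⟩
    rwa [d.inf, copre_bot] at this
  · rw [← copre_quo_of_le (le_sup_left.trans U.le) (U.RN c f), ← d.sup, copre_sup,
      copre_quo_of_le le_sup_left f.PN, sup_comm (Q ⊔ _), ← sup_assoc, sup_eq_left.2 (le_copre W)]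

variable {W : Subgroup G} (w1 : Q ≤ W) (w2 : t ∉ W) (w3 : W ⊔ zpowers t = R) (w4 : h ∈ 𝐍(W))
include w1 w2 w3 w4

omit c f U w1 w2 w4 [Finite G] in
theorem WR : W ≤ R := w3 ▸ le_sup_left

omit w2 w4 in
theorem tW : t ∈ 𝐍(W) := mem_normalizer_of_conj_le (conj_le_iff.2 fun x hx => by
  simpa using W.mul_mem (w1 (U.cm c f (U.le Fm.tP) (WR w3 hx))) hx)

omit w4 in
theorem cardW : Nat.card W = Nat.card V * Nat.card Q := by
  have := card_sup_zp (U.tW c f w1 w3) w2 (c.t2 ▸ W.one_mem)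
  rw [w3, U.card c f] at this
  linarith

omit w4 in
theorem move (hx : x ∈ W) (hx' : x ∉ Q) : h * x * h⁻¹ * x⁻¹ ∉ Q := fun e => by
  obtain ⟨n, hn, e⟩ := Coprime.exists_mul_mem_centralizer' (A := zpowers h) (zpowers_le.2 f.hN)
    (Coprime.coprime_card_of_isPGroup f.pg (by rw [Nat.card_zpowers]; exact Nat.coprime_two_right.2 c.ho))
    (.inr (pgroup_sol f.pg)) (k := x) (fun a ha => by
      obtain ⟨n, rfl⟩ := mem_powers_iff_mem_zpowers.2 ha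
      induction n with
      | zero => simp
      | succ n ih =>
        have := Q.mul_mem (conj_mem_of_norm f.hN (ih (pow_mem (mem_zpowers h) n))) e
        simp only at this ⊢
        rwa [show h ^ (n + 1) * x * (h ^ (n + 1))⁻¹ * x⁻¹ =
          h * (h ^ n * x * (h ^ n)⁻¹ * x⁻¹) * h⁻¹ * (h * x * h⁻¹ * x⁻¹) by group])
  have m := W.mul_mem (w1 hn) hx
  rcases c.fix U.pg (f.leP.trans U.le) U.cent (U.le Fm.tP) (mem_zpowers h) c.hC (WR w3 m)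
    (BG.mem_cent.1 e h (mem_zpowers h)) with e | e
  · exact hx' (by rw [eq_inv_of_mul_eq_one_right e]; exact Q.inv_mem hn)
  · exact w2 (e ▸ m)

theorem all_cosets (hu : IsConj t u) (h1 : u ∈ W) (hx : x ∈ W) (hx' : x ∉ Q) : ∃ a ∈ Q, IsConj t (a * x) := by
  let S : Set G := {x | x ∈ W ∧ ∃ a ∈ Q, IsConj t (a * x)}
  have s : S ⊆ (W : Set G) \ Q := by
    rintro x ⟨x1, a, ha, e⟩
    exact ⟨x1, fun e' => f.nQ _ (Q.mul_mem ha e') e⟩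
  have d1 : Nat.card V - 1 ∣ S.ncard := c.dvd U.pg (f.leP.trans U.le) U.cent (U.le Fm.tP)
    (fun x hx => ⟨WR w3 hx.1, fun e => (s hx).2 (e ▸ Q.one_mem), fun e => w2 (e ▸ hx.1)⟩) (by
      rintro x ⟨x1, a, ha, e⟩
      exact ⟨conj_mem_of_norm w4 x1, _, conj_mem_of_norm f.hN ha, by
        simpa [mul_assoc] using isConj_cj e h⟩)
  have d2 : Nat.card Q ∣ S.ncard := PSL2.card_dvd_ncard_of_free Q S (by
      rintro g hg x ⟨x1, a, ha, e⟩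
      exact ⟨W.mul_mem (w1 hg) x1, a * g⁻¹, Q.mul_mem ha (Q.inv_mem hg), by simpa [mul_assoc] using e⟩)
    fun g _ x _ e => by simpa using e
  have e1 : ((W : Set G) \ Q).ncard = (Nat.card V - 1) * Nat.card Q := by
    rw [Set.ncard_sdiff w1, Nat.sub_mul, ← U.cardW c f w1 w2 w3, one_mul]; rfl
  obtain ⟨n, hn⟩ := IsPGroup.iff_card.1 f.pg
  obtain ⟨m, hm⟩ := IsPGroup.iff_card.1 (pg_sq c.V2)
  have m0 : m ≠ 0 := by rintro rfl; have := c.c4; omega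
  have := Nat.le_of_dvd ((Set.ncard_pos).2 ⟨u, show u ∈ S from ⟨h1, 1, Q.one_mem, by simpa using hu⟩⟩)
    (Nat.Coprime.mul_dvd_of_dvd_of_dvd (by
      rw [hn, hm]
      exact (Nat.coprime_two_right.2 (Nat.Even.sub_odd Nat.one_le_two_pow
        (Nat.even_pow.2 ⟨even_two, m0⟩) odd_one)).pow_right n) d1 d2)
  have e2 : x ∈ S := by rw [Set.eq_of_subset_of_ncard_le s (e1 ▸ this)]; exact Set.mem_sdiff_of_mem hx hx'
  exact e2.2

omit w4 in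
theorem exists_inv (hu : IsConj t u) (h1 : u ∈ W) :
    ∃ I ≤ Q, I.relIndex Q ≤ 2 ∧ ∀ a ∈ I, u * a * u⁻¹ = a⁻¹ := by
  let I : Subgroup G := ⟨⟨⟨{a | a ∈ Q ∧ u * a * u⁻¹ = a⁻¹}, fun {a b} ha hb => ⟨Q.mul_mem ha.1 hb.1, by
    rw [show u * (a * b) * u⁻¹ = u * a * u⁻¹ * (u * b * u⁻¹) by group, ha.2, hb.2, ← mul_inv_rev,
      f.comm_of c U.all' ha.1 hb.1]⟩⟩, Q.one_mem, by simp⟩, fun {a} ha => ⟨Q.inv_mem ha.1, by
    rw [show u * a⁻¹ * u⁻¹ = (u * a * u⁻¹)⁻¹ by group, ha.2]⟩⟩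
  have l : I ≤ Q := fun _ h => h.1
  refine ⟨I, l, ?_, fun _ h => h.2⟩
  have s : hcl W u ⊆ (· * u) '' (I : Set G) := by
    rintro _ ⟨r, hr, rfl⟩
    refine ⟨r * u * r⁻¹ * u⁻¹, ⟨U.cm c f (WR w3 hr) (WR w3 h1), ?_⟩, by simp⟩
    rw [inv_self (c.sq hu), eq_inv_iff_mul_eq_one]
    calc _ = u * (r * u * r⁻¹) * (u * u) * (r * u * r⁻¹) * u := by group
      _ = u * (r * (u * u) * r⁻¹) * u := by nth_rw 1 [c.sq hu]; group
      _ = 1 := by simp [c.sq hu]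
  have e1 := Set.ncard_le_ncard s
  rw [Set.ncard_image_of_injective _ (mul_left_injective u)] at e1
  have e2 := ncard_hcl_mul W u
  rw [c.card_cent hu (pgroup_of_le U.pg (WR w3)) (f.le.trans w1) ((WR w3).trans U.cent) h1,
    U.cardW c f w1 w2 w3] at e2
  have e3 := card_mul_relIndex l
  have e4 : 0 < Nat.card I := Nat.card_pos
  have e5 : (hcl W u).ncard * 2 = Nat.card Q := Nat.eq_of_mul_eq_mul_left (by have := c.c4; omega : 0 < Nat.card V)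
    (by linarith)
  change _ ≤ Nat.card I at e1
  exact Nat.le_of_mul_le_mul_left (by omega) e4

theorem nW (hu : IsConj t u) (h1 : u ∈ W) : False := by
  have hu2 := isConj_cj hu h
  have m2 := conj_mem_of_norm w4 h1
  have n2 := U.move c f w1 w2 w3 h1 fun e => f.nQ u e hu
  rw [inv_self (c.sq hu)] at n2
  have key : ∀ {y r}, IsConj t y → y ∈ W → r ∈ W → r * y = y * r → r ∈ V ∨ r * y ∈ V := fun hy y1 r1 e =>
    c.mem_cent hy U.pg (f.leP.trans U.le) U.cent (WR w3 y1) (WR w3 r1) e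
  have nc : h * u * h⁻¹ * u ≠ u * (h * u * h⁻¹) := fun e =>
    (key hu h1 m2 e).elim (c.nmem hu2) fun e => n2 (f.le e)
  generalize hv : h * u * h⁻¹ = v at hu2 m2 n2 nc
  obtain ⟨a, ha, hw⟩ := U.all_cosets c f w1 w2 w3 w4 hu h1 (W.mul_mem m2 h1) n2
  by_cases e : V = Q
  · subst e
    have := c.sq hw
    rw [show a * (v * u) * (a * (v * u)) = a * (v * u * a) * (v * u) by group, ← BG.mem_cent.1 (U.cent (WR w3
      (W.mul_mem m2 h1))) a ha, ← mul_assoc a a, c.V2 a ha, one_mul] at this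
    exact nc (Inv.comm_of_mul_self (c.sq hu2) (c.sq hu) this)
  obtain ⟨I, i1, i2, i3⟩ := U.exists_inv c f w1 w2 w3 hu h1
  obtain ⟨J, j1, j2, j3⟩ := U.exists_inv c f w1 w2 w3 hu2 m2
  have l : I ⊓ J ≤ V := fun b hb => by
    refine (key hw (W.mul_mem (w1 ha) (W.mul_mem m2 h1)) (w1 (i1 hb.1)) ?_).resolve_right fun e =>
      f.nQ _ (by simpa using Q.mul_mem (Q.inv_mem (i1 hb.1)) (f.le e)) hw
    have : v * u * b * (v * u)⁻¹ = b := by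
      rw [show v * u * b * (v * u)⁻¹ = v * (u * b * u⁻¹) * v⁻¹ by group, i3 b hb.1, j3 _ (J.inv_mem hb.2), inv_inv]
    rw [mul_assoc a, mul_inv_eq_iff_eq_mul.1 this, ← mul_assoc, ← mul_assoc a, f.comm_of c U.all' ha (i1 hb.1)]
  have e1 := card_mul_relIndex (inf_le_left.trans i1 : I ⊓ J ≤ Q)
  have e2 : (I ⊓ J).relIndex Q ≤ 2 * 2 := relIndex_inf_le.trans (Nat.mul_le_mul i2 j2)
  have e3 := card_le_of_le l
  have e4 := f.sq_le c e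
  have e5 : Nat.card V = 4 := by have := c.c4; nlinarith
  have h3 := c.pow_mem_cent
  rw [e5] at h3
  have := fpf_tri w4 (fun x hx e => (c.fix U.pg (f.leP.trans U.le) U.cent (U.le Fm.tP) (mem_zpowers h) c.hC
    (WR w3 hx) e).resolve_right fun e => w2 (e ▸ hx)) (cent_anti (WR w3) (c.cent_of_odd U.pg (f.leP.trans U.le)
      U.cent (U.le Fm.tP) (c.odd_z (pow_mem (mem_zpowers h) 3)) (pow_mem U.hN 3) h3 (pow_mem c.ht 3))) h1
  rw [hv] at this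
  refine nc (Inv.comm_of_mul_self (c.sq hu) (c.sq hu2) ?_).symm
  rw [eq_inv_of_mul_eq_one_left this, ← mul_inv_rev, c.sq (isConj_cj hu2 h), inv_one]

end Up

theorem Fm.step (c : Cl t h V) (f : Fm t h V Q) (hn : ¬ Syl 2 (Q ⊔ zpowers t) 𝐂(V)) :
    ∃ k W, Cl t k V ∧ h⁻¹ * k ∈ 𝐂(V) ∧ Fm t k V W ∧ Q < W := by
  set Y := 𝐂(V) ⊓ 𝐍(Q ⊔ zpowers t) with hY
  have h0 : Q ⊔ zpowers t ≤ Y := le_inf (f.centP c) (le_norm _)
  have h2 : h ∈ 𝐍(Y) := norm_inf (norm_cent (zpowers_le.2 c.hN)) (norm_norm (zpowers_le.2 (f.hP c)))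
    (mem_zpowers h)
  obtain ⟨hj, H⟩ := f.jj2 c h0 inf_le_right h2 (c.sylU.of_le (le_inf ((sup_le_sup_right f.le _).trans h0)
    (c.sylU.le.trans inf_le_right)) (inf_le_inf_right _ inf_le_left)) fun e => hn e.of_norm
  obtain ⟨R, hR, l⟩ := Syl.exists_ge (f.pgP c) h0
  have H' := fun a ha => Fm.hcl_syl c inf_le_right hR l hj (H a ha)
  have hQ : 𝐍(Q ⊔ zpowers t) ≤ 𝐍(Q) := f.norm_of c fun a ha => by
    obtain ⟨g, -, e⟩ := H a ha; exact isConj_iff.2 ⟨g, e⟩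
  obtain ⟨y, hy, e⟩ := hR.exists_conj_eq (hR.conj_of_norm h2)
  obtain ⟨r, hr, e'⟩ := Fm.hcl_syl c inf_le_right hR l hj ⟨y⁻¹, Y.inv_mem hy, rfl⟩
  have m : r⁻¹ * y⁻¹ ∈ Y := Y.mul_mem (Y.inv_mem (hR.le hr)) (Y.inv_mem hy)
  obtain ⟨k, hk, ho, k1⟩ := exists_odd_part (k := r⁻¹ * y⁻¹ * h) (by
    simpa [mul_assoc] using conj_mem_of_norm' (norm_cent (zpowers_le.2 c.hN) (mem_zpowers h)) m.1) c.hN c.ho
  have c' : Cl t k V := c.congr k1 ho (zpowers_le.2 (Subgroup.mul_mem _ (mem_cent1.2 (by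
    rw [mul_assoc, show y⁻¹ * t = y⁻¹ * t * y⁻¹⁻¹ * y⁻¹ by group, ← e']; group)) c.ht) hk)
  have k2 : k ∈ 𝐍(Q ⊔ zpowers t) := zpowers_le.2 (Subgroup.mul_mem _ m.2 (f.hP c)) hk
  have f' : Fm t k V Q := { f with hN := hQ k2 }
  have U : Up t k V Q R := ⟨hR.pgroup, l, hR.le.trans inf_le_left, hR.le.trans inf_le_right,
    zpowers_le.2 (norm_of_conj_eq (by
      rw [← conj_conj, e, ← conj_conj, inv_conj_conj, conj_eq_of_mem (R.inv_mem hr)])) hk, H'⟩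
  obtain ⟨W, w1, w2, w3, w4⟩ := U.exists_compl c' f'
  refine ⟨k, W, c', k1, ⟨pgroup_of_le U.pg (Up.WR w3), f.le.trans w1, (Up.WR w3).trans U.cent,
    U.tW c' f' w1 w3, w4, fun x hx e => U.nW c' f' w1 w2 w3 w4 e hx⟩, lt_of_le_of_ne w1 fun e => ?_⟩
  have := U.cardW c' f' w1 w2 w3
  rw [← e] at this
  have := c.c4
  have : 0 < Nat.card Q := Nat.card_pos
  nlinarith

theorem Cl.climb (c : Cl t h V) :
    ∃ k Q, Cl t k V ∧ h⁻¹ * k ∈ 𝐂(V) ∧ Fm t k V Q ∧ Syl 2 (Q ⊔ zpowers t) 𝐂(V) := by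
  obtain ⟨Q, ⟨k, c', e, f⟩, hm⟩ := Set.Finite.exists_maximal
    (Set.toFinite {Q | ∃ k, Cl t k V ∧ h⁻¹ * k ∈ 𝐂(V) ∧ Fm t k V Q})
    ⟨V, h, c, by simp, pg_sq c.V2, le_rfl, c.VC, cent_le_norm V c.tV, c.hN, c.nV⟩
  refine ⟨k, Q, c', e, f, by_contra fun hn => ?_⟩
  obtain ⟨k', W, c'', e', f', l⟩ := f.step c' hn
  exact l.not_ge (hm ⟨k', c'', by simpa [mul_assoc] using Subgroup.mul_mem _ e e', f'⟩ l.le)

end Cfsg.Lib.TL2
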