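import Cfsg.Agent.Lib.TT.Prime
import Cfsg.Agent.Lib.Perm.SRing2
import Cfsg.Agent.Lib.Frobenius.Theorem
import Cfsg.Agent.Lib.Misc.Cyclic
import Cfsg.Agent.Lib.Core.MinNormal

/-! Linear groups over `𝔽₂` with a Singer cycle inside a subgroup of odd order and index `q`. -/

set_option autoImplicit false

namespace Cfsg.Lib.TL2

open Subgroup MulAction Cfsg.Lib.BG Cfsg.Lib.TT
open Cfsg.Lib.Transfer hiding card_mul_relIndex

theorem ga_arith {n f k s e : ℕ} (hn : n ≠ 0) (h1 : s * e + 1 = 2 ^ n) (h2 : 1 < s) (h3 : f ∣ n) (h4 : Odd f)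
    (h5 : k ∣ f) (h6 : 1 < k) (h7 : e ∣ 2 ^ (n / k) - 1) (h8 : s - 1 ∣ 2 ^ n * f)
    (h9 : s.Prime → s - 1 ∣ 2 ^ n * k) : n = 3 := by
  obtain ⟨d, rfl⟩ := h5.trans h3
  rw [Nat.mul_div_cancel_left _ (by omega)] at h7
  have d0 : d ≠ 0 := by rintro rfl; simp at hn
  have k3 : 3 ≤ k := by
    have := (h4.of_dvd_nat h5); obtain ⟨j, rfl⟩ := this; omega
  have e1 : e ≤ 2 ^ d - 1 := Nat.le_of_dvd (by have := Nat.one_lt_two_pow d0; omega) h7
  obtain ⟨x, y, hx, hy, e2⟩ := (Nat.dvd_mul).1 h8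
  obtain ⟨a, ha, rfl⟩ := (Nat.dvd_prime_pow Nat.prime_two).1 hx
  have e3 : 2 ^ a ∣ e + 1 := by
    have : 2 ^ a ∣ s * e + 1 := h1 ▸ pow_dvd_pow 2 ha
    rw [show s * e + 1 = 2 ^ a * (y * e) + (e + 1) by
      rw [← mul_assoc, e2]; obtain ⟨s, rfl⟩ : ∃ r, s = r + 1 := ⟨s - 1, by omega⟩
      simp only [Nat.add_sub_cancel]; ring] at this
    exact (Nat.dvd_add_right (dvd_mul_right _ _)).1 this
  have e4 := Nat.le_of_dvd (by omega) e3
  have e5 : y ≤ k * d := Nat.le_of_dvd (by omega) (hy.trans h3)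
  have e6 : 0 < 2 ^ d := by positivity
  have e7 : 2 ^ (k * d) ≤ 2 ^ (2 * d) * (k * d) := by
    have a1 : s ≤ 2 ^ d * (k * d) + 1 := by
      have := Nat.mul_le_mul (show 2 ^ a ≤ 2 ^ d by omega) e5; omega
    have a2 := Nat.mul_le_mul a1 e1
    rw [two_mul, pow_add, ← h1]
    generalize 2 ^ d = D at *
    obtain ⟨D, rfl⟩ : ∃ r, D = r + 1 := ⟨D - 1, by omega⟩
    simp only [Nat.add_sub_cancel] at a2
    nlinarith [Nat.pos_of_ne_zero hn]
  have e8 : 2 ^ ((k - 2) * d) ≤ k * d := by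
    refine Nat.le_of_mul_le_mul_left ?_ (show 0 < 2 ^ (2 * d) by positivity)
    rwa [← pow_add, ← add_mul, show 2 + (k - 2) = k by omega]
  have e9 : (k - 2) * d < 4 := by
    by_contra hc
    have b1 : k * d ≤ 3 * ((k - 2) * d) := by
      rw [← mul_assoc]; exact Nat.mul_le_mul_right _ (by omega)
    generalize (k - 2) * d = m at *
    obtain ⟨m, rfl⟩ : ∃ r, m = r + 4 := ⟨m - 4, by omega⟩
    have : 3 * (m + 4) < 2 ^ (m + 4) := by
      clear * -
      induction m with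
      | zero => norm_num
      | succ m ih => rw [show m + 1 + 4 = m + 4 + 1 by ring, pow_succ]; omega
    omega
  have k5 : k ≤ 5 := by
    by_contra hc
    have := Nat.mul_le_mul (show 4 ≤ k - 2 by omega) (show 1 ≤ d by omega); omega
  have d3 : d ≤ 3 := by
    by_contra hc
    have := Nat.mul_le_mul (show 1 ≤ k - 2 by omega) (show 4 ≤ d by omega); omega
  have ko := h4.of_dvd_nat h5
  have f9 : f ≤ k * d := Nat.le_of_dvd (by omega) h3
  interval_cases k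
  · interval_cases d
    · simp at d0
    · rfl
    · have : f = 3 := by
        interval_cases f <;> simp_all (config := {decide := true})
      subst this
      rcases (Nat.dvd_prime Nat.prime_three).1 h7 with rfl | rfl
      · obtain rfl : s = 63 := by omega
        norm_num at h8
      · obtain rfl : s = 21 := by omega
        norm_num at h8
    · rcases (Nat.dvd_prime Nat.prime_seven).1 h7 with rfl | rfl
      · obtain rfl : s = 511 := by omega
        exact absurd (Nat.le_of_dvd h4.pos ((by norm_num : Nat.Coprime 255 (2 ^ (3 * 3))).dvd_of_dvd_mul_left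
          ((by norm_num : 255 ∣ 511 - 1).trans h8))) (by omega)
      · obtain rfl : s = 73 := by omega
        exact absurd (h9 (by norm_num)) (by norm_num)
  · exact absurd ko (by decide)
  · obtain rfl : d = 1 := by omega
    norm_num at e8

variable {Γ F : Type*} [Group Γ] [Finite Γ] [Field F] [Fintype F] [DistribMulAction Γ F] [FaithfulSMul Γ F]
  {μ : Fˣ →* Γ} {Γ₀ N L M : Subgroup Γ} {g k : Γ} {n : ℕ}

/-- The hypothesis: `μ` is the Singer cycle. -/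
structure Ga (μ : Fˣ →* Γ) (Γ₀ : Subgroup Γ) (n : ℕ) : Prop where
  act : ∀ c (x : F), μ c • x = c * x
  card : Fintype.card F = 2 ^ n
  n0 : n ≠ 0
  idx : Γ₀.index = 2 ^ n
  odd : Odd (Nat.card Γ₀)
  le : μ.range ≤ Γ₀
  norm : Γ₀ ≤ 𝐍(μ.range)
  ti : ∀ g ∉ Γ₀, ∀ k ∈ μ.range, g⁻¹ * k * g ∈ Γ₀ → k = 1

namespace Ga

variable (a : Ga μ Γ₀ n)
include a

omit [Finite Γ] [FaithfulSMul Γ F] in
theorem inj : Function.Injective μ := (injective_iff_map_eq_one μ).2 fun c e => by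
  have := a.act c 1
  rw [e, one_smul, mul_one] at this
  exact Units.ext this.symm

omit [Finite Γ] [FaithfulSMul Γ F] in
theorem cardH : Nat.card μ.range + 1 = 2 ^ n := by
  rw [← Nat.card_congr (MonoidHom.ofInjective a.inj).toEquiv, Nat.card_units, Nat.card_eq_fintype_card, a.card]
  exact Nat.sub_add_cancel Nat.one_le_two_pow

omit [Finite Γ] [FaithfulSMul Γ F] in
theorem fix1 (hk : k ∈ μ.range) {x : F} (hx : x ≠ 0) (e : k • x = x) : k = 1 := by
  obtain ⟨c, rfl⟩ := hk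
  rw [a.act, mul_eq_right₀ hx] at e
  rw [Units.val_eq_one.1 e, map_one]

omit [Finite Γ] [FaithfulSMul Γ F] in
theorem dec (g : Γ) : ∃ k ∈ μ.range, k⁻¹ * g ∈ stabilizer Γ (1 : F) :=
  ⟨μ (Units.mk0 (g • 1) ((smul_ne_zero_iff_ne g).2 one_ne_zero)), ⟨_, rfl⟩, by
    rw [mem_stabilizer_iff, mul_smul, inv_smul_eq_iff, a.act]; simp⟩

omit [Finite Γ] in
theorem mem_of_comm (e : ∀ k ∈ μ.range, g * k = k * g) : g ∈ μ.range := by
  obtain ⟨_, ⟨c, rfl⟩, h⟩ := a.dec g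
  refine ⟨c, eq_of_smul_eq_smul (α := F) fun x => ?_⟩
  by_cases hx : x = 0
  · simp [hx]
  rw [mem_stabilizer_iff, mul_smul, inv_smul_eq_iff, a.act] at h
  have := congrArg (· • (1 : F)) (e _ ⟨Units.mk0 x hx, rfl⟩)
  simp only [mul_smul, a.act, h, Units.val_mk0, mul_one] at this ⊢
  rw [this, mul_comm]

omit [Finite Γ] in
theorem eq_bot [hN : N.Normal] {x : F} (hx : x ≠ 0) (h : N ≤ stabilizer Γ x) : N = ⊥ :=
  eq_bot_iff.2 fun g hg => eq_of_smul_eq_smul (α := F) fun y => by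
    by_cases hy : y = 0
    · simp [hy]
    have := h (hN.conj_mem' g hg (μ (Units.mk0 (y / x) (div_ne_zero hy hx))))
    rw [mem_stabilizer_iff, mul_smul, mul_smul, inv_smul_eq_iff, a.act, Units.val_mk0, div_mul_cancel₀ _ hx] at this
    rw [this, one_smul]

omit [Finite Γ] in
theorem two_bot [N.Normal] (h : IsPGroup 2 N) : N = ⊥ := by
  obtain ⟨x, hx, e⟩ := h.exists_fixed_point_of_prime_dvd_card_of_fixed_point F
    (by rw [Nat.card_eq_fintype_card, a.card]; exact dvd_pow_self 2 a.n0) (a := 0) fun g => smul_zero g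
  exact a.eq_bot e.symm fun g hg => hx ⟨g, hg⟩

omit [FaithfulSMul Γ F] in
theorem eq_top (h1 : Γ₀ ≤ L) (h2 : ¬ L ≤ Γ₀) : L = ⊤ := by
  obtain ⟨g, hg, h3⟩ := SetLike.not_le_iff_exists.1 h2
  have i : Function.Injective fun k : μ.range => ((k * g : Γ) : Γ ⧸ Γ₀) := fun k l e => by
    have := a.ti g h3 _ (mul_mem (inv_mem k.2) l.2) (by simpa [mul_assoc] using QuotientGroup.eq.1 e)
    exact Subtype.ext (inv_mul_eq_one.1 this)
  have s : Set.range (fun k : μ.range => ((k * g : Γ) : Γ ⧸ Γ₀)) ⊆ {((1 : Γ) : Γ ⧸ Γ₀)}ᶜ := by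
    rintro _ ⟨k, rfl⟩ e
    exact h3 (by simpa using mul_mem (inv_mem (a.le k.2)) (inv_mem (QuotientGroup.eq.1 e)))
  have e := Set.eq_of_subset_of_ncard_le s (by
    have := Set.ncard_add_ncard_compl {((1 : Γ) : Γ ⧸ Γ₀)}
    have h := a.cardH
    rw [Set.ncard_singleton, ← index_eq_card, a.idx] at this
    rw [Set.ncard_range_of_injective i]; omega)
  refine eq_top_iff.2 fun x _ => ?_
  by_cases hx : x ∈ Γ₀
  · exact h1 hx
  obtain ⟨k, hk⟩ : (x : Γ ⧸ Γ₀) ∈ Set.range (fun k : μ.range => ((k * g : Γ) : Γ ⧸ Γ₀)) :=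
    e ▸ fun e => hx (by simpa using QuotientGroup.eq.1 (Eq.symm e))
  simpa [mul_assoc] using mul_mem (mul_mem (h1 (a.le k.2)) hg) (h1 (QuotientGroup.eq.1 hk))

omit [FaithfulSMul Γ F] [Finite Γ] in
theorem exists_not_mem : ∃ g, g ∉ Γ₀ := by
  by_contra! h
  have := a.idx
  rw [(eq_top_iff' Γ₀).2 h, index_top] at this
  exact (Nat.one_lt_two_pow a.n0).ne this

theorem card_normal [hN : N.Normal] (h0 : N ≠ ⊥) : Nat.card N = 2 ^ n * Nat.card ↥(N ⊓ Γ₀) := by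
  have h : N ⊔ Γ₀ = ⊤ := a.eq_top le_sup_right fun l => h0 (eq_bot_iff.2 fun x hx => by
    obtain ⟨g, hg⟩ := a.exists_not_mem
    have key : ∀ k ∈ μ.range, k ∈ N → k = 1 := fun k hk h => a.ti g hg k hk (l (mem_sup_left (hN.conj_mem' k h g)))
    refine key x (a.mem_of_comm fun k hk => ?_) hx
    have := key (x * k * x⁻¹ * k⁻¹) (mul_mem (conj_mem_of_norm (a.norm (l (mem_sup_left hx))) hk) (inv_mem hk))
      (by simpa [mul_assoc] using mul_mem hx (hN.conj_mem _ (inv_mem hx) k))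
    rwa [mul_inv_eq_one, mul_inv_eq_iff_eq_mul] at this)
  have e1 := Coprime.card_sup_mul_card_inf (N := N) (A := Γ₀) le_normalizer_of_normal
  rw [h, card_top, ← Γ₀.card_mul_index, a.idx] at e1
  exact Nat.eq_of_mul_eq_mul_left Nat.card_pos (by rw [mul_comm _ (Nat.card N), ← e1, mul_assoc])

theorem sol_bot [hN : N.Normal] (h : Group.IsSolvable N) : N = ⊥ := by
  by_contra h0
  obtain ⟨M, hM, l⟩ := Core.exists_isMinNormal_le hN h0
  obtain ⟨p, hp, e⟩ := hM.exists_isPGroup (sol_of_le h l)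
  have := hM.normal
  have := Fact.mk hp
  obtain ⟨m, hm⟩ := IsPGroup.iff_card.1 e
  have : 2 ∣ p ^ m := by rw [← hm, a.card_normal hM.ne_bot]; exact (dvd_pow_self 2 a.n0).mul_right _
  obtain rfl := (Nat.prime_dvd_prime_iff_eq Nat.prime_two hp).1 (Nat.prime_two.dvd_of_dvd_pow this)
  exact hM.ne_bot (a.two_bot e)

omit [Finite Γ] in
theorem gal (h1 : L ≤ Γ₀ ⊓ stabilizer Γ (1 : F)) :
    Nat.card L ∣ n ∧ ∃ φ ∈ L, ∀ x : F, φ • x = x ^ 2 ^ (n / Nat.card L) := by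
  have : CharP F 2 := by
    obtain ⟨p, hp⟩ := CharP.exists F
    obtain ⟨m, hm, e⟩ := FiniteField.card F p
    obtain rfl := (Nat.prime_dvd_prime_iff_eq Nat.prime_two hm).1 (Nat.prime_two.dvd_of_dvd_pow
      (e ▸ a.card ▸ dvd_pow_self 2 a.n0))
    exact hp
  let _ := ZMod.algebra F 2
  have mul : ∀ g ∈ L, ∀ x y : F, g • (x * y) = g • x * g • y := fun g hg x y => by
    by_cases hx : x = 0
    · simp [hx]
    obtain ⟨c, hc⟩ := conj_mem_of_norm (a.norm (h1 hg).1) (⟨Units.mk0 x hx, rfl⟩ : _ ∈ μ.range)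
    have e : ∀ y : F, g • (x * y) = c * g • y := fun y => by
      rw [← a.act, hc, mul_smul, mul_smul, inv_smul_smul, a.act, Units.val_mk0]
    have := e 1
    rw [mul_one, mem_stabilizer_iff.1 (h1 hg).2, mul_one] at this
    rw [e, this]
  let τ : L →* (F ≃ₐ[ZMod 2] F) :=
    { toFun := fun g => AlgEquiv.ofRingEquiv (f := { DistribMulAction.toAddEquiv F (g : Γ) with
          map_mul' := mul g g.2 }) fun z => by
        rcases (by decide : ∀ z : ZMod 2, z = 0 ∨ z = 1) z with rfl | rfl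
        · simp
        · simpa using mem_stabilizer_iff.1 (h1 g.2).2
      map_one' := AlgEquiv.ext fun x => one_smul Γ x
      map_mul' := fun g k => AlgEquiv.ext fun x => mul_smul (g : Γ) k x }
  have hτ : ∀ g x, τ g x = (g : Γ) • x := fun _ _ => rfl
  have i : Function.Injective τ := fun g k e => Subtype.ext (eq_of_smul_eq_smul (α := F) fun x => by
    rw [← hτ, ← hτ, e])
  have e1 : Module.finrank (ZMod 2) F = n := Nat.pow_right_injective le_rfl (by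
    have := Module.card_eq_pow_finrank (K := ZMod 2) (V := F)
    rw [ZMod.card, a.card] at this; exact this.symm)
  have e2 := FiniteField.orderOf_frobeniusAlgEquivOfAlgebraic (ZMod 2) F
  have e3 : Nat.card τ.range = Nat.card L := (Nat.card_congr (MonoidHom.ofInjective i).toEquiv).symm
  have e4 : Nat.card L ∣ n := by
    rw [← e3, ← e1, ← IsGalois.card_aut_eq_finrank]; exact card_subgroup_dvd_card _
  obtain ⟨φ, hφ⟩ := (Misc.cyclic_mem_iff_pow_card τ.range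
    (FiniteField.frobeniusAlgEquivOfAlgebraic (ZMod 2) F ^ (n / Nat.card L))).2 (by
      rw [← pow_mul, e3, Nat.div_mul_cancel e4, ← e1, ← e2, pow_orderOf_eq_one])
  refine ⟨e4, φ, φ.2, fun x => ?_⟩
  rw [← hτ, hφ, AlgEquiv.coe_pow, FiniteField.coe_frobeniusAlgEquivOfAlgebraic_iterate, ZMod.card]

theorem not_frob [hN : N.Normal] (h0 : N ≠ ⊥) (h : N ⊓ Γ₀ ≤ μ.range) : False := by
  have e := a.card_normal h0
  have h2 : 2 ∣ Nat.card N := e ▸ (dvd_pow_self 2 a.n0).mul_right _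
  by_cases h1 : N ⊓ Γ₀ = ⊥
  · exact h0 (a.two_bot (IsPGroup.of_card (n := n) (by rw [e, h1, card_bot, mul_one])))
  obtain ⟨K, -, k1, k2⟩ := Frobenius.exists_normal_coe_eq_frobeniusKernel (H := Γ₀.subgroupOf N)
    ⟨fun e => h1 (by rwa [subgroupOf_eq_bot, disjoint_iff, inf_comm] at e), fun e =>
      a.odd.not_two_dvd_nat (h2.trans (card_dvd_of_le (subgroupOf_eq_top.1 e))), fun g hg =>
      eq_bot_iff.2 fun x hx => Subtype.ext (a.ti g hg x (h ⟨x.2, hx.1⟩) (by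
        simpa [mem_subgroupOf] using mem_pointwise_smul_iff_inv_smul_mem.1 hx.2))⟩
  have e2 := k2.card_mul_card
  rw [← inf_subgroupOf_right, Nat.card_congr (subgroupOfEquivOfLe inf_le_right).toEquiv, e, inf_comm] at e2
  have e3 := Nat.eq_of_mul_eq_mul_right Nat.card_pos e2
  have p : IsPGroup 2 K := IsPGroup.of_card e3
  have l : K ≤ pCore 2 N := Core.le_pCore k1 p
  have : (pCore 2 N).map N.subtype = ⊥ := a.two_bot ((Core.pCore_isPGroup 2 N).map _)
  rw [Core.map_subtype_eq_bot_iff.1 this, le_bot_iff] at l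
  rw [l, card_bot] at e3
  exact (Nat.one_lt_two_pow a.n0).ne e3

omit [FaithfulSMul Γ F] in
theorem card_eq (h : μ.range ≤ L) : Nat.card L = Nat.card μ.range * Nat.card ↥(L ⊓ stabilizer Γ (1 : F)) := by
  have T : Tr L ({0}ᶜ : Set F) := Tr.of_base (y := 1) (fun g _ y hy => (smul_ne_zero_iff_ne g).2 hy)
    fun z hz => ⟨_, h ⟨Units.mk0 z hz, rfl⟩, by rw [a.act]; exact mul_one z⟩
  have := Set.ncard_add_ncard_compl {(0 : F)}
  have e := a.cardH
  rw [Set.ncard_singleton, Nat.card_eq_fintype_card, a.card] at this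
  rw [T.card (y := 1) one_ne_zero, mul_comm]
  congr 1; omega

theorem three : n = 3 := by
  classical
  set B := stabilizer Γ (1 : F) with hB
  set H := μ.range with hH
  have cH := a.cardH
  have hc : ∀ k ∈ H, ∀ l ∈ H, k * l = l * k := by
    rintro _ ⟨c, rfl⟩ _ ⟨d, rfl⟩; rw [← map_mul, mul_comm, map_mul]
  have cB : Nat.card B = 2 ^ n * Nat.card ↥(Γ₀ ⊓ B) := by
    have e1 := a.card_eq (le_top : H ≤ ⊤)
    rw [top_inf_eq, card_top, ← Γ₀.card_mul_index, a.card_eq a.le, a.idx] at e1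
    exact Nat.eq_of_mul_eq_mul_left Nat.card_pos (by rw [← e1, mul_assoc, mul_comm (2 ^ n)])
  by_cases hT : B = ⊤
  · have := a.eq_bot one_ne_zero (hT.ge : ⊤ ≤ B)
    obtain ⟨g, hg⟩ := a.exists_not_mem
    exact absurd (mem_bot.1 (this ▸ mem_top g) ▸ Γ₀.one_mem) hg
  obtain ⟨M, hM, -⟩ := exists_covBy_le_of_lt (lt_top_iff_ne_top.2 hT)
  let Δ : Set F := {z | ∃ g ∈ M ⊓ H, g • (1 : F) = z}
  have d1 : (1 : F) ∈ Δ := ⟨1, one_mem _, one_smul _ _⟩
  have dec : ∀ g ∈ M, ∃ k ∈ M ⊓ H, k⁻¹ * g ∈ B := fun g hg => by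
    obtain ⟨k, hk, e⟩ := a.dec g
    exact ⟨k, ⟨by simpa using mul_mem hg (inv_mem (hM.le e)), hk⟩, e⟩
  have hm : ∀ g ∈ M, ∀ y ∈ Δ, g • y ∈ Δ := by
    rintro g hg _ ⟨k, hk, rfl⟩
    obtain ⟨l, hl, e⟩ := dec _ (mul_mem hg hk.1)
    exact ⟨l, hl, by rw [mem_stabilizer_iff, mul_smul, inv_smul_eq_iff, mul_smul] at e; exact e.symm⟩
  have T0 := tr_orbit (M ⊓ H) (1 : F)
  have c0 : Nat.card ↥(M ⊓ H) = Δ.ncard := by
    rw [T0.card d1, (eq_bot_iff_forall (M ⊓ H ⊓ B)).2 fun k hk => a.fix1 hk.1.2 one_ne_zero hk.2, card_bot, one_mul]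
  have h0 : M ⊓ H ≠ ⊥ := fun e => hM.lt.not_ge fun g hg => by
    obtain ⟨k, hk, e'⟩ := dec g hg
    rw [e, mem_bot] at hk
    rwa [hk, inv_one, one_mul] at e'
  have l1 : M ⊓ H ≤ M.normalCore := fun k hk g => by
    obtain ⟨l, hl, e⟩ := a.dec g⁻¹
    have := mul_mem (mul_mem (inv_mem (hM.le e)) hk.1) (hM.le e)
    rwa [show (l⁻¹ * g⁻¹)⁻¹ * k * (l⁻¹ * g⁻¹) = g * (l * k) * l⁻¹ * g⁻¹ by group, hc l hl k hk.2,
      show g * (k * l) * l⁻¹ * g⁻¹ = g * k * g⁻¹ by group] at this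
  set K := M.normalCore with hK
  have k0 : K ≠ ⊥ := fun e => h0 (le_bot_iff.1 (e ▸ l1))
  have TK : Tr K Δ := T0.mono l1 fun g hg => hm g (M.normalCore_le hg)
  have TK' : Tr (K ⊓ Γ₀) Δ := T0.mono (le_inf l1 (inf_le_right.trans a.le)) fun g hg => hm g (M.normalCore_le hg.1)
  have s0 : 1 < Δ.ncard := c0 ▸ (one_lt_card_iff_ne_bot _).2 h0
  have cK : Nat.card ↥(K ⊓ B) = 2 ^ n * Nat.card ↥(K ⊓ Γ₀ ⊓ B) := by
    have := a.card_normal k0
    rw [TK.card d1, TK'.card d1, ← mul_assoc] at this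
    exact Nat.eq_of_mul_eq_mul_right (by omega) this
  have l2 : K ⊓ Γ₀ ⊓ B ≤ Γ₀ ⊓ B := inf_le_inf_right _ inf_le_right
  obtain ⟨-, φ, hφ, e⟩ := a.gal l2
  have two : ∀ {X : Subgroup Γ} {hm}, IsMultiplyPretransitive X (sub X Δ hm) 2 → Δ.ncard - 1 ∣ Nat.card ↥(X ⊓ B) :=
    fun h => by
      obtain ⟨y, hy, y1⟩ := Set.exists_ne_of_one_lt_ncard s0 1
      rw [(tr_of_two h d1).card (y := y) ⟨hy, y1⟩, Set.ncard_sdiff_singleton_of_mem d1]
      exact dvd_mul_left _ _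
  have burn : Δ.ncard.Prime → Δ.ncard - 1 ∣ Nat.card ↥(K ⊓ B) := fun hp => by
    have := TK.pretrans
    let _ := Fintype.ofFinite (sub K Δ TK.mem)
    let ρ := toPermHom K (sub K Δ TK.mem)
    have : IsPretransitive ρ.range (sub K Δ TK.mem) := ⟨fun y z => by
      obtain ⟨g, hg⟩ := exists_smul_eq K y z; exact ⟨⟨_, g, rfl⟩, hg⟩⟩
    rcases Cfsg.Agent.S0675.result (by rw [← Nat.card_eq_fintype_card]; exact hp) ρ.range with h | h
    · obtain ⟨m, hm⟩ := h.solvable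
      refine absurd (a.sol_bot ⟨m, Core.map_subtype_eq_bot_iff.1 (a.eq_bot one_ne_zero ?_)⟩) k0
      rintro _ ⟨g, hg, rfl⟩
      have := map_derivedSeries_le_derivedSeries ρ.rangeRestrict m ⟨g, hg, rfl⟩
      rw [hm, mem_bot] at this
      exact congrArg (fun x : ρ.range => ((x : Equiv.Perm (sub K Δ TK.mem)) ⟨1, d1⟩ : F)) this
    · refine two (hm := TK.mem) (is_two_pretransitive_iff.2 fun h1 h2 => ?_)
      obtain ⟨⟨_, g, rfl⟩, hg⟩ := is_two_pretransitive_iff.1 h h1 h2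
      exact ⟨g, hg⟩
  refine ga_arith (f := Nat.card ↥(Γ₀ ⊓ B)) (k := Nat.card ↥(K ⊓ Γ₀ ⊓ B)) (s := Δ.ncard) (e := M.relIndex H) a.n0
    (by rw [← c0, ← inf_relIndex_right, card_mul_relIndex inf_le_right, cH]) s0 (a.gal le_rfl).1
    (a.odd.of_dvd_nat (card_dvd_of_le inf_le_left)) (card_dvd_of_le l2)
    ((one_lt_card_iff_ne_bot _).2 fun e => a.not_frob k0 fun g hg => ?_) ?_ ?_ fun hp => cK ▸ burn hp
  · obtain ⟨k, hk, e'⟩ := dec g (M.normalCore_le hg.1)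
    have : k⁻¹ * g ∈ K ⊓ Γ₀ ⊓ B := ⟨⟨K.mul_mem (K.inv_mem (l1 hk)) hg.1,
      Γ₀.mul_mem (Γ₀.inv_mem (a.le hk.2)) hg.2⟩, e'⟩
    rw [e, mem_bot, inv_mul_eq_one] at this
    exact this ▸ hk.2
  · obtain ⟨c, hc⟩ := IsCyclic.exists_ofOrder_eq_natCard (α := Fˣ)
    generalize n / Nat.card ↥(K ⊓ Γ₀ ⊓ B) = d at e
    have e1 : (μ c)⁻¹ * φ * μ c * φ⁻¹ = μ (c ^ (2 ^ d - 1)) := eq_of_smul_eq_smul (α := F) fun x => by
      obtain ⟨x, rfl⟩ := MulAction.surjective φ x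
      simp only [mul_smul, inv_smul_smul, inv_smul_eq_iff, a.act]
      rw [e, e, mul_pow, ← mul_assoc, Units.val_pow_eq_pow_val, ← pow_succ', Nat.sub_add_cancel Nat.one_le_two_pow]
    have e2 : μ (c ^ (2 ^ d - 1)) ∈ M ⊓ H := ⟨e1 ▸ M.normalCore_le (mul_mem (Normal.conj_mem' inferInstance φ hφ.1.1 _)
      (inv_mem hφ.1.1)), _, rfl⟩
    have e3 := orderOf_dvd_natCard (⟨_, e2⟩ : ↥(M ⊓ H))
    rw [orderOf_mk, orderOf_injective μ a.inj, orderOf_dvd_iff_pow_eq_one, ← pow_mul, ← orderOf_dvd_iff_pow_eq_one, hc,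
      Nat.card_congr (MonoidHom.ofInjective a.inj).toEquiv, ← card_mul_relIndex (inf_le_right : M ⊓ H ≤ H),
      inf_relIndex_right, mul_comm (2 ^ d - 1)] at e3
    exact Nat.dvd_of_mul_dvd_mul_left Nat.card_pos e3
  by_cases hp : Δ.ncard.Prime
  · exact (burn hp).trans (cB ▸ card_dvd_of_le inf_le_right)
  have TM : Tr M Δ := T0.mono inf_le_left hm
  have := TM.pretrans
  have : Nontrivial (sub M Δ hm) := Finite.one_lt_card_iff_nontrivial.1 s0
  have prim : IsPreprimitive M (sub M Δ hm) := (isCoatom_stabilizer_iff_preprimitive M (⟨1, d1⟩ : sub M Δ hm)).1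
    ⟨fun e => hM.lt.not_ge fun g hg => congrArg Subtype.val (e.ge (mem_top (⟨g, hg⟩ : M))), fun L hL => by
      refine Core.map_subtype_eq_self_iff.1 ((hM.eq_or_eq (c := L.map M.subtype)
        (fun g hg => ⟨⟨g, hM.le hg⟩, hL.le (Subtype.ext hg), rfl⟩) (map_subtype_le L)).resolve_left fun e => hL.not_ge fun g hg => Subtype.ext (e.le ⟨g, hg, rfl⟩))⟩
  have : IsCyclic H := isCyclic_of_surjective μ.rangeRestrict μ.rangeRestrict_surjective
  have : IsCyclic ↥(M ⊓ H) := isCyclic_of_le inf_le_right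
  let _ : CommGroup ↥(M ⊓ H) := IsCyclic.commGroup
  let _ := Fintype.ofFinite ↥(M ⊓ H)
  have c1 : Fintype.card ↥(M ⊓ H) = Δ.ncard := Nat.card_eq_fintype_card.symm.trans c0
  have hq := Nat.minFac_prime s0.ne'
  refine (two (Perm.SR.two_trans_of_sring prim (inclusion inf_le_left) (fun y z => ?_) (fun y k e' => ?_) fun S =>
    S.cyclic hq (c1 ▸ Nat.minFac_dvd _) fun h => hp (c1 ▸ h ▸ hq))).trans (cB ▸ card_dvd_of_le inf_le_right)
  · obtain ⟨g, hg, e⟩ := T0.tr _ y.2 _ z.2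
    exact ⟨⟨g, hg⟩, Subtype.ext e⟩
  · obtain ⟨g, -, hg⟩ := y.2
    exact Subtype.ext (a.fix1 k.2.2 (hg ▸ (smul_ne_zero_iff_ne g).2 one_ne_zero) (congrArg Subtype.val e'))

end Ga

end Cfsg.Lib.TL2
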