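import Cfsg.Agent.Lib.TL2.F
import Cfsg.Agent.Lib.Transfer.Extremal
import Cfsg.Agent.Lib.Inv.DihedralSylow

/-! Sylow subgroups `2 × D` with `D` dihedral of order at least `8` in the centralizer. -/

set_option autoImplicit false

namespace Cfsg.Lib.TL2

open Subgroup Cfsg.Lib.BG Cfsg.Lib.FGS Cfsg.Lib.SR
open Cfsg.Lib.Transfer hiding card_mul_relIndex

variable {G : Type*} [Group G] [Finite G] {C D M S W X : Subgroup G} {a b d e g h r s t u v w x y z : G} {m : ℕ}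

theorem thompson_ext (hG : pResidual 2 G = ⊤) (hS : Syl 2 S ⊤) (l : M ≤ S) (e : Nat.card S ≤ 2 * Nat.card M)
    (ht : t * t = 1) (hC : IsPGroup 2 C) (hc : C ≤ 𝐂[t]) : ∃ g, g * t * g⁻¹ ∈ M ∧ g ⋆ C ≤ S := by
  obtain ⟨T, rfl⟩ := Syl.top_iff_sylow.1 hS
  have e1 := card_mul_relIndex l
  have e2 : 0 < Nat.card M := Nat.card_pos
  have e3 : M.relIndex T ≠ 0 := index_ne_zero_of_finite
  have e4 : M.relIndex T ≤ 2 := Nat.le_of_mul_le_mul_left (by omega) e2
  have e5 : M.relIndex T ∣ 2 := by interval_cases M.relIndex T <;> simp_all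
  have : (M.subgroupOf T).Normal := by
    rcases (Nat.dvd_prime Nat.prime_two).1 e5 with h | h
    · rw [index_eq_one.1 h]; infer_instance
    · exact normal_of_index_eq_two h
  obtain ⟨g, h1, -, h2⟩ := exists_conj_mem_and_conj_le T (T := M) (isCyclic_of_card_dvd_prime e5) ht
    (by rw [hG]; exact mem_sup_left (mem_top t)) hC hc
  exact ⟨g, h1, h2⟩

/-- The dihedral case. -/
structure Di (t z a b : G) (m : ℕ) (D : Subgroup G) : Prop where
  t2 : t * t = 1
  tD : t ∈ 𝐂(D)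
  tn : t ∉ D
  mc : Inv.MC D a b m 0 0
  m0 : m ≠ 0
  hz : z = a ^ ((2 : ℤ) ^ m)
  syl : Syl 2 (D ⊔ zpowers t) 𝐂[t]
  fus : ∀ e ∈ D, e ≠ 1 → e * e = 1 → ∃ g ∈ 𝐂[t], g * e * g⁻¹ = z

namespace Di

variable (c : Di t z a b m D)
include c

omit [Finite G] in
theorem conj (g : G) : Di (g * t * g⁻¹) (g * z * g⁻¹) (g * a * g⁻¹) (g * b * g⁻¹) m (g ⋆ D) where
  t2 := by rw [show g * t * g⁻¹ * (g * t * g⁻¹) = g * (t * t) * g⁻¹ by group, c.t2]; group
  tD := by rw [← conj_centralizer]; exact conj_mem_conj.2 c.tD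
  tn := fun e => c.tn (conj_mem_conj.1 e)
  mc := c.mc.conjugate g
  m0 := c.m0
  hz := by rw [c.hz, conj_zpow]
  syl := by rw [← conj_zpowers, ← conj_sup, ← conj_cent1]; exact c.syl.conj g
  fus := by
    intro e he e1 e2
    obtain ⟨k, hk, rfl⟩ := c.fus _ (mem_conj.1 he) (fun e => e1 (by simpa [mul_assoc, inv_mul_eq_one] using e)) (by
      rw [show g⁻¹ * e * g * (g⁻¹ * e * g) = g⁻¹ * (e * e) * g by group, e2]; group)
    exact ⟨g * k * g⁻¹, by rw [← conj_cent1]; exact conj_mem_conj.2 hk, by group⟩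

omit [Finite G] in
theorem mem : x ∈ D ⊔ zpowers t ↔ x ∈ D ∨ x * t ∈ D := by
  rw [mem_sup_zp (cent_le_norm D c.tD) (c.t2 ▸ D.one_mem), inv_self c.t2]

omit [Finite G] in
theorem card : Nat.card ↥(D ⊔ zpowers t) = 2 * Nat.card D :=
  card_sup_zp (cent_le_norm D c.tD) c.tn (c.t2 ▸ D.one_mem)

omit [Finite G] in
theorem sq (hu : IsConj t u) : u * u = 1 := by
  obtain ⟨g, rfl⟩ := isConj_iff.1 hu
  rw [show g * t * g⁻¹ * (g * t * g⁻¹) = g * (t * t) * g⁻¹ by group, c.t2]; group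

omit [Finite G] in
theorem cm (hd : d ∈ D) : d * t = t * d := BG.mem_cent.1 c.tD d hd

omit [Finite G] in
theorem t1 : t ≠ 1 := fun e => c.tn (e ▸ D.one_mem)

omit [Finite G] in
theorem zD : z ∈ D := c.hz ▸ c.mc.zpow_mem _

omit [Finite G] in
theorem z2 : z * z = 1 := c.hz ▸ c.mc.z_mul_self

omit [Finite G] in
theorem z1 : z ≠ 1 := c.hz ▸ c.mc.z_ne_one

theorem zm (hd : d ∈ D) : d * z = z * d := c.hz ▸ c.mc.z_comm hd

theorem into (hu : IsConj t u) (hX : IsPGroup 2 X) (l : X ≤ 𝐂[u]) :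
    ∃ n, n * u * n⁻¹ = t ∧ n ⋆ X ≤ D ⊔ zpowers t := by
  obtain ⟨g, rfl⟩ := isConj_iff.1 hu
  obtain ⟨k, hk, e⟩ := c.syl.exists_conj_le ((pgroup_conj g⁻¹).2 hX) (by
    rw [← conj_cent1] at l; exact (conj_mono _ l).trans (inv_conj_conj _ _).le)
  exact ⟨k * g⁻¹, by rw [show k * g⁻¹ * (g * t * g⁻¹) * (k * g⁻¹)⁻¹ = k * t * k⁻¹ by group, mem_cent1.1 hk]; group,
    by rwa [← conj_conj]⟩

theorem card_le (hu : IsConj t u) (hX : IsPGroup 2 X) (l : X ≤ 𝐂[u]) : Nat.card X ≤ 2 * Nat.card D := by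
  obtain ⟨n, -, e⟩ := c.into hu hX l
  rw [← c.card, ← card_conj n X]; exact card_le_of_le e

theorem nsq (x : G) : ¬ IsConj t (x * x) := fun e => by
  have p : IsPGroup 2 (zpowers x) := IsPGroup.of_card_dvd_pow (n := 2) (by
    rw [Nat.card_zpowers, orderOf_dvd_iff_pow_eq_one, show 2 ^ 2 = 4 from rfl, p4, c.sq e])
  obtain ⟨n, e1, e2⟩ := c.into e p (zpowers_le.2 (mem_cent1.2 (mul_assoc ..).symm))
  have m := e2 (conj_mem_conj.2 (mem_zpowers x))
  rw [show n * (x * x) * n⁻¹ = n * x * n⁻¹ * (n * x * n⁻¹) by group] at e1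
  generalize n * x * n⁻¹ = y at m e1
  rcases c.mem.1 m with m | m
  · exact c.tn (e1 ▸ D.mul_mem m m)
  · have := D.mul_mem m m
    rw [show y * t * (y * t) = y * (t * (y * t)) by group, ← c.cm m, mul_assoc y t, c.t2, mul_one, e1] at this
    exact c.tn this

omit [Finite G] in
theorem half : ∃ s ∈ zpowers a, s * s = z := by
  obtain ⟨k, hk⟩ := Nat.exists_eq_succ_of_ne_zero c.m0
  exact ⟨a ^ ((2 : ℤ) ^ k), zpow_mem (mem_zpowers a) _, by rw [c.hz, hk, ← zpow_add, pow_succ]; congr 1; ring⟩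

theorem nD (he : e ∈ D) : ¬ IsConj t e := fun H => by
  obtain ⟨g, -, e1⟩ := c.fus e he (fun e => c.t1 (isConj_one_left.1 (e ▸ H))) (c.sq H)
  obtain ⟨s, -, e2⟩ := c.half
  exact c.nsq s (e2 ▸ e1 ▸ isConj_cj H g)

theorem refl (hr : r ∈ D) (r1 : r ∉ zpowers a) (hx : x ∈ zpowers a) : r * x * r⁻¹ = x⁻¹ := by
  obtain ⟨i, rfl⟩ := c.mc.exists_refl hr r1
  obtain ⟨j, rfl⟩ := hx
  simpa using c.mc.refl_conj i j

theorem refl2 (hr : r ∈ D) (r1 : r ∉ zpowers a) : r * r = 1 := by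
  obtain ⟨i, rfl⟩ := c.mc.exists_refl hr r1
  exact c.mc.dih_refl_sq i

omit [Finite G] in
theorem eqz (hx : x ∈ zpowers a) (x2 : x * x = 1) : x = 1 ∨ x = z :=
  or_iff_not_imp_left.2 fun x1 => c.hz ▸ c.mc.eq_z hx x1 x2

/-- The centralizer of a reflection. -/
theorem cent_refl (hr : r ∈ D) (r1 : r ∉ zpowers a) (hx : x ∈ D) (e : x * r = r * x) :
    x ∈ zpowers z ⊔ zpowers r := by
  have key : ∀ x ∈ zpowers a, x * r = r * x → x ∈ zpowers z := fun x hx e => by
    have := c.refl hr r1 hx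
    rw [← e, mul_inv_cancel_right, eq_inv_iff_mul_eq_one] at this
    exact (Inv.mem_zpowers_iff_of_mul_self c.z2).2 (c.eqz hx this)
  by_cases x1 : x ∈ zpowers a
  · exact mem_sup_left (key x x1 e)
  · simpa using mul_mem (mem_sup_left (key _ (c.mc.mul_inv_mem hx x1 hr r1) (by
      rw [inv_mul_cancel_right, ← mul_assoc, ← e, mul_inv_cancel_right]))) (mem_sup_right (mem_zpowers r))

/-- An element of order four moves every reflection. -/
theorem move (hr : r ∈ D) (r1 : r ∉ zpowers a) (hs : s ∈ zpowers a) (e : s * s = z) : s * r * s⁻¹ = z * r := by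
  have := c.refl hr r1 (inv_mem hs)
  rw [inv_inv, mul_inv_eq_iff_eq_mul] at this
  rw [mul_assoc, this, ← mul_assoc, e]

theorem zc (hx : x ∈ D ⊔ zpowers t) (e : x ∈ 𝐂(D)) : x = 1 ∨ x = z ∨ x = t ∨ x = z * t := by
  have key : ∀ x ∈ D, x ∈ 𝐂(D) → x = 1 ∨ x = z := fun x hx e => by
    obtain ⟨s, hs, e1⟩ := c.half
    by_cases x1 : x ∈ zpowers a
    · have := c.refl c.mc.b_mem c.mc.nmem x1
      rw [BG.mem_cent.1 e b c.mc.b_mem, mul_inv_cancel_right, eq_inv_iff_mul_eq_one] at this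
      exact c.eqz x1 this
    · have := c.move hx x1 hs e1
      rw [BG.mem_cent.1 e s (c.mc.zpowers_le hs), mul_inv_cancel_right, right_eq_mul] at this
      exact absurd this c.z1
  rcases c.mem.1 hx with m | m
  · rcases key x m e with e | e <;> simp [e]
  · rcases key _ m (mul_mem e c.tD) with e | e
    · exact .inr (.inr (.inl (by rw [eq_inv_of_mul_eq_one_left e, inv_self c.t2])))
    · exact .inr (.inr (.inr (by rw [← e, mul_assoc, c.t2, mul_one])))

theorem fused (hn : ¬ Syl 2 (D ⊔ zpowers t) ⊤) : IsConj t (z * t) := by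
  obtain ⟨R, hR, l⟩ := Syl.exists_ge c.syl.pgroup le_top
  obtain ⟨x, x1, x2, -, x4⟩ := PGroup.exists_mem_normalizer_of_lt hR.pgroup (lt_of_le_of_ne l fun e => hn (e ▸ hR))
  have H := isConj_cj (IsConj.refl t) x
  rcases c.zc (conj_mem_of_norm x4 (mem_sup_right (mem_zpowers t))) (cent_anti le_sup_left
    (conj_mem_of_norm (norm_cent le_rfl x4) (le_cent1_iff.1 c.syl.le))) with e | e | e | e
  · exact absurd e (Inv.conj_ne_one c.t1)
  · exact absurd (e ▸ H) (c.nD c.zD)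
  · exact absurd (c.syl.ge_of_norm_p' (zpowers_le.2 (mem_cent1.2 (mul_inv_eq_iff_eq_mul.1 e)))
      (pgroup_of_le hR.pgroup (zpowers_le.2 x1)) (zpowers_le.2 x4) (mem_zpowers x)) x2
  · exact e ▸ H

omit [Finite G] in
theorem out (H : IsConj t (z * t)) (he : e ∈ D) (e2 : e * e = 1) : IsConj t (e * t) := by
  by_cases e1 : e = 1
  · rw [e1, one_mul]
  obtain ⟨g, hg, rfl⟩ := c.fus e he e1 e2
  have := isConj_cj H g⁻¹
  rwa [show g⁻¹ * (g * e * g⁻¹ * t) * g⁻¹⁻¹ = e * g⁻¹ * (t * g) by group, ← mem_cent1.1 hg, ← mul_assoc,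
    inv_mul_cancel_right] at this

omit [Finite G] in
theorem out' (H : IsConj t (z * t)) (he : e ∈ D ⊔ zpowers t) (e2 : e * e = 1) (n : e ∉ D) : IsConj t e := by
  simpa [mul_assoc, c.t2] using c.out H ((c.mem.1 he).resolve_left n) (by
    rw [mul_assoc, ← mul_assoc t, ← mem_cent1.1 (c.syl.le he), mul_assoc e, c.t2, mul_one, e2])

theorem star (H : IsConj t (z * t)) (hu : IsConj t u) (e2 : e * e = 1) (cm : e * u = u * e) :
    IsConj t (e * u) ↔ ¬ IsConj t e := by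
  obtain ⟨n, e1, l⟩ := c.into hu (pg_zp e2) (zpowers_le.2 (mem_cent1.2 cm))
  have m := l (conj_mem_conj.2 (mem_zpowers e))
  have i1 : ∀ x, IsConj t x ↔ IsConj t (n * x * n⁻¹) := fun x => ⟨fun h => isConj_cj h n, fun h => by
    simpa [mul_assoc] using isConj_cj h n⁻¹⟩
  have e3 : n * e * n⁻¹ * (n * e * n⁻¹) = 1 := by
    rw [show n * e * n⁻¹ * (n * e * n⁻¹) = n * (e * e) * n⁻¹ by group, e2]; group
  rw [i1, i1 e, show n * (e * u) * n⁻¹ = n * e * n⁻¹ * (n * u * n⁻¹) by group, e1]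
  generalize n * e * n⁻¹ = y at m e3
  by_cases m' : y ∈ D
  · exact iff_of_true (c.out H m' e3) (c.nD m')
  · exact iff_of_false (c.nD ((c.mem.1 m).resolve_left m')) fun h => h (c.out' H m e3 m')

theorem eq_z (H : IsConj t (z * t)) (hS : IsPGroup 2 S) (l : D ⊔ zpowers t < S) (hy : y ∈ S) (y1 : y ≠ 1)
    (y2 : y ∈ 𝐂(S)) : y = z := by
  have key : ¬ IsConj t y := fun e => by
    have := c.card_le e hS (le_cent1_iff.2 y2)
    have := card_lt_of_lt l
    have := c.card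
    omega
  have m : y ∈ D ⊔ zpowers t := c.syl.ge_of_norm_p' (zpowers_le.2 (cent_le_cent1 (l.le (mem_sup_right
    (mem_zpowers t))) y2)) (pgroup_of_le hS (zpowers_le.2 hy)) (zpowers_le.2 (cent_le_norm _ (cent_anti l.le y2)))
    (mem_zpowers y)
  rcases c.zc m (cent_anti (le_sup_left.trans l.le) y2) with e | e | e | e
  exacts [absurd e y1, e, absurd (e ▸ IsConj.refl _) key, absurd (e ▸ H) key]

theorem zS (H : IsConj t (z * t)) (hS : IsPGroup 2 S) (l : D ⊔ zpowers t < S) : z ∈ 𝐂(S) := by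
  obtain ⟨y, y1, y2, y3⟩ := PGroup.exists_mem_centralizer_orderOf_eq hS hS (le_norm S) (ne_bot_of_gt l)
  exact c.eq_z H hS l y1 (Inv.ne_one_of_orderOf y3) y2 ▸ y2

/-- The case of index two. -/
theorem case_one (hG : pResidual 2 G = ⊤) (H : IsConj t (z * t)) (hS : Syl 2 S ⊤) (l : D ⊔ zpowers t < S)
    (e : Nat.card S ≤ 2 * Nat.card ↥(D ⊔ zpowers t)) : False := by
  have cT := c.card
  have d0 : 0 < Nat.card D := Nat.card_pos
  have cS : Nat.card S = 4 * Nat.card D := by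
    obtain ⟨k, hk⟩ := card_dvd_of_le l.le
    have := card_lt_of_lt l
    rw [hk] at e this ⊢
    obtain rfl : k = 2 := by
      have := Nat.le_of_mul_le_mul_left (e.trans_eq (mul_comm _ _)) (by omega)
      have : k ≠ 1 := by rintro rfl; omega
      have : k ≠ 0 := by rintro rfl; omega
      omega
    omega
  have idx : ∀ {M}, M ≤ S → Nat.card M = 2 * Nat.card D → S ≤ 𝐍(M) := fun {M} l e =>
    (normal_subgroupOf_iff_le_normalizer l).1 (normal_of_index_eq_two (Nat.eq_of_mul_eq_mul_left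
      (Nat.card_pos (α := M)) ((card_mul_relIndex l).trans (by omega))))
  have tS : t ∈ S := l.le (mem_sup_right (mem_zpowers t))
  have DS : D ≤ S := le_sup_left.trans l.le
  have inv : ∀ s ∈ S, ∀ e ∈ D, e * e = 1 → s * e * s⁻¹ ∈ D := fun s hs e he e2 => by_contra fun n => c.nD he (by
    simpa [mul_assoc] using isConj_cj (c.out' H (conj_mem_of_norm (idx l.le cT hs) (mem_sup_left he)) (by
      rw [show s * e * s⁻¹ * (s * e * s⁻¹) = s * (e * e) * s⁻¹ by group, e2]; group) n) s⁻¹)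
  have DN : S ≤ 𝐍(D) := fun s hs => mem_normalizer_of_conj_le (by
    rw [← c.mc.sup, conj_sup, conj_zpowers, conj_zpowers, c.mc.sup]
    have b2 := c.refl2 c.mc.b_mem c.mc.nmem
    have := D.mul_mem (inv s hs _ (c.mc.refl_mem 1) (c.mc.dih_refl_sq 1)) (inv s hs b c.mc.b_mem b2)
    exact sup_le (zpowers_le.2 (by simpa [mul_assoc, ← mul_assoc b b, b2] using this))
      (zpowers_le.2 (inv s hs b c.mc.b_mem b2)))
  have zS := c.zS H hS.pgroup l
  obtain ⟨u, u1, u2, u3⟩ : ∃ u ∈ S, IsConj t u ∧ u ∉ D ⊔ zpowers t := by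
    by_contra! hn
    obtain ⟨T, rfl⟩ := Syl.top_iff_sylow.1 hS
    have := (normal_subgroupOf_iff_le_normalizer DS).2 DN
    refine not_mem_pResidual_sup_commutator_of_conj_mem_coset T (K := D) (commutator_le.2 fun x hx y hy => ?_) tS c.tn
      ((_root_.sq t).trans c.t2) (fun g hg => ?_) (by rw [hG]; exact mem_sup_left (mem_top t))
    · have := (IsPGroup.isMulCommutative_of_card_eq_prime_sq (G := T ⧸ D.subgroupOf T) (p := 2)
        (Nat.eq_of_mul_eq_mul_left d0 ((card_mul_relIndex DS).trans (by omega)))).is_comm.comm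
        (⟨x, hx⟩ : (T : Subgroup G)) (⟨y, hy⟩ : (T : Subgroup G))
      rw [← commutatorElement_eq_one_iff_mul_comm] at this
      have e := QuotientGroup.eq_one_iff (N := D.subgroupOf T)
        ((⟨x, hx⟩ : (T : Subgroup G)) * ⟨y, hy⟩ * (⟨x, hx⟩ : (T : Subgroup G))⁻¹ * (⟨y, hy⟩ : (T : Subgroup G))⁻¹)
      exact e.1 this
    · rw [inv_self c.t2]
      exact (c.mem.1 (hn _ hg (isConj_cj (IsConj.refl t) g))).resolve_left
        fun e => c.nD e (isConj_cj (IsConj.refl t) g)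
  have un : u ∉ D := fun e => u3 (mem_sup_left e)
  have c1 := card_sup_zp (DN u1) un (c.sq u2 ▸ D.one_mem)
  obtain ⟨g, g1, g2⟩ := thompson_ext hG hS (sup_le DS (zpowers_le.2 u1)) (by omega) c.t2 c.syl.pgroup c.syl.le
  have H' := isConj_cj (IsConj.refl t) g
  have c' := c.conj g
  rw [conj_sup, conj_zpowers] at g2
  have c2 := c'.card
  rw [card_conj] at c2
  have l' := lt_of_le_of_ne g2 fun e => by rw [e] at c2; omega
  have H2 : IsConj (g * t * g⁻¹) (g * z * g⁻¹ * (g * t * g⁻¹)) := by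
    simpa [mul_assoc] using H'.symm.trans (isConj_cj H g)
  have ez := c'.eq_z H2 hS.pgroup l' (DS c.zD) c.z1 zS
  have ex : ∀ s ∈ S, s * (g * t * g⁻¹) * s⁻¹ = g * t * g⁻¹ ∨ s * (g * t * g⁻¹) * s⁻¹ = z * (g * t * g⁻¹) := fun s hs => by
    rcases c'.zc (conj_mem_of_norm (idx g2 c2 hs) (mem_sup_right (mem_zpowers _))) (cent_anti le_sup_left
      (conj_mem_of_norm (norm_cent le_rfl (idx g2 c2 hs)) (le_cent1_iff.1 c'.syl.le))) with e | e | e | e
    · exact absurd e (Inv.conj_ne_one c'.t1)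
    · exact absurd (e ▸ isConj_cj (IsConj.refl _) s) (c'.nD c'.zD)
    · exact .inl e
    · exact .inr (ez ▸ e)
  have v1 : g * t * g⁻¹ ∉ D ⊔ zpowers t := fun e => u3 (by
    simpa [mul_assoc] using mul_mem (inv_mem (mem_sup_left (((mem_sup_zp (DN u1) (c.sq u2 ▸ D.one_mem)).1 g1).resolve_left
      fun e => c.nD e H'))) e)
  have v2 := sup_le DS (zpowers_le.2 u1) g1
  clear ez H2 l' c2 g2 g1 c' c1 un u1 u2 u3
  generalize g * t * g⁻¹ = v at ex v1 v2 H'
  have vv := c.sq H'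
  have zv := BG.mem_cent.1 zS v v2
  have zt := c.cm c.zD
  have tv : t * v = z * v * t := mul_inv_eq_iff_eq_mul.1 ((ex t tS).resolve_left fun e => v1 (c.syl.ge_of_norm_p'
    (zpowers_le.2 (mem_cent1.2 (mul_inv_eq_iff_eq_mul.1 e).symm)) (pg_zp vv) (zpowers_le.2 (idx l.le cT v2))
    (mem_zpowers v)))
  have w2 : t * v * (t * v) = z := by
    nth_rw 1 [tv]; rw [mul_assoc _ t, ← mul_assoc t, c.t2, one_mul, mul_assoc, vv, mul_one]
  have wS := S.mul_mem tS v2
  have wn : t * v ∉ D := fun e => v1 (by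
    simpa using mul_mem (inv_mem (mem_sup_right (mem_zpowers t))) (mem_sup_left e))
  obtain ⟨w, w3, w4⟩ := thompson hG hS (sup_le DS (zpowers_le.2 wS)) (by
    rw [card_sup_zp (DN wS) wn (w2 ▸ c.zD)]; omega) c.t2
  obtain ⟨d, hd, rfl⟩ : ∃ d ∈ D, w = d * (t * v) := ⟨_, ((mem_sup_zp (DN wS) (w2 ▸ c.zD)).1 w3).resolve_left
    fun e => c.nD e w4, by group⟩
  have A : ∀ e ∈ D, e * e = 1 → e * v = v * e → IsConj t (e * v) := fun e he e2 cm =>
    (c.star H H' e2 cm).2 (c.nD he)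
  have B : ∀ e ∈ D, e * e = 1 → e * v * e⁻¹ = z * v → ¬ IsConj t (e * (t * v)) := fun e he e2 cm h =>
    (c.star H H' (c.sq (c.out H he e2)) (by
      rw [mul_assoc, tv, ← mul_assoc, ← mul_assoc, c.zm he, mul_assoc z, mul_inv_eq_iff_eq_mul.1 cm, ← mul_assoc,
        ← mul_assoc, c.z2, one_mul, mul_assoc])).1 (by rwa [mul_assoc]) (c.out H he e2)
  have key : ∀ y ∈ 𝐂(S), v * d = y * d * v → y * (d * d) * z = 1 := fun y hy e => by
    rw [← c.sq w4, ← w2]
    calc _ = y * d * (d * t) * v * t * v := by group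
      _ = (y * (d * t)) * d * v * t * v := by rw [c.cm hd, mul_assoc y d, ← mul_assoc d, c.cm hd]; group
      _ = d * t * (y * d * v) * t * v := by rw [← BG.mem_cent.1 hy _ (S.mul_mem (DS hd) tS)]; group
      _ = _ := by rw [← e]; group
  rcases ex d (DS hd) with e1 | e1
  swap
  · refine B d hd ?_ e1 w4
    have := key z zS (by rw [mul_assoc, mul_inv_eq_iff_eq_mul.1 e1, ← mul_assoc, ← mul_assoc, c.z2, one_mul])
    rwa [← c.zm (D.mul_mem hd hd), mul_assoc, c.z2, mul_one] at this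
  rw [mul_inv_eq_iff_eq_mul] at e1
  have dd := key 1 (one_mem _) (by rw [one_mul, e1])
  rw [one_mul, mul_eq_one_iff_eq_inv, inv_self c.z2] at dd
  have da : d ∈ zpowers a := by_contra fun n => c.z1 (dd ▸ c.refl2 hd n)
  have b1 := c.mc.b_mem
  have b2 := c.refl2 b1 c.mc.nmem
  have bd := D.mul_mem b1 hd
  have bd2 := c.refl2 bd fun e => c.mc.nmem (by simpa using mul_mem e (inv_mem da))
  have db : d * b = z * b * d := mul_inv_eq_iff_eq_mul.1 (c.move b1 c.mc.nmem da dd)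
  have w5 := S.mul_mem (DS hd) wS
  have bw : ∀ y ∈ 𝐂(S), b * v = y * v * b → b * (d * (t * v)) = z * y * (d * (t * v)) * b := fun y hy e => by
    have : b * d = z * d * b := by rw [mul_assoc, db, ← mul_assoc, ← mul_assoc, c.z2, one_mul]
    calc _ = z * d * (b * t) * v := by rw [← mul_assoc, this]; group
      _ = z * (d * t * y) * v * b := by rw [c.cm b1, mul_assoc _ _ v, mul_assoc t, e]; group
      _ = _ := by rw [BG.mem_cent.1 hy _ (S.mul_mem (DS hd) tS)]; group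
  rcases ex b (DS b1) with e2 | e2 <;> rw [mul_inv_eq_iff_eq_mul] at e2
  · refine (c.star H w4 (c.sq (c.out H b1 b2)) ?_).1 ?_ (c.out H b1 b2)
    · have tw : t * (d * (t * v)) = z * (d * (t * v)) * t := by
        calc _ = d * t * (t * v) := by rw [← mul_assoc, ← c.cm hd]
          _ = (d * t * z) * v * t := by rw [tv]; group
          _ = _ := by rw [BG.mem_cent.1 zS _ (S.mul_mem (DS hd) tS)]; group
      rw [mul_assoc, tw, mul_assoc z, ← mul_assoc b, c.zm b1, mul_assoc z, ← mul_assoc b,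
        bw 1 (one_mem _) (by rw [one_mul, e2]), mul_one, ← mul_assoc, ← mul_assoc, ← mul_assoc, c.z2, one_mul, mul_assoc]
    · rw [mul_assoc, ← mul_assoc t, ← c.cm hd, mul_assoc d, ← mul_assoc t, c.t2, one_mul, ← mul_assoc]
      exact A _ bd bd2 (by rw [mul_assoc, e1, ← mul_assoc, e2, mul_assoc])
  · refine B _ bd bd2 (by rw [mul_inv_eq_iff_eq_mul, mul_assoc, e1, ← mul_assoc, e2, mul_assoc]) ?_
    rw [mul_assoc]
    exact (c.star H w4 b2 (by rw [bw z zS e2, c.z2, one_mul])).2 (c.nD b1)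

end Di

end Cfsg.Lib.TL2
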