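import Cfsg.Agent.Lib.TL2.G
import Cfsg.Agent.S0221

/-! Sylow subgroups `2 × D` with `D` dihedral of order at least `8`: the contradiction. -/

set_option autoImplicit false

namespace Cfsg.Lib.TL2

open Subgroup Cfsg.Lib.BG Cfsg.Lib.FGS Cfsg.Lib.SR
open Cfsg.Lib.Transfer hiding card_mul_relIndex

variable {G : Type*} [Group G] [Finite G] {C D M S W X : Subgroup G} {a b d e g h r s t u v w x y z : G} {m : ℕ}

namespace Di

variable (c : Di t z a b m D)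
include c

omit [Finite G] in
theorem four_le (H : IsConj t (z * t)) (h4 : IsKleinFour W) (l : W ≤ D ⊔ zpowers t) (n : ∀ w ∈ W, ¬ IsConj t w) :
    W ≤ D := fun w hw => by_contra fun e => n w hw (c.out' H (l hw) (Inv.k4_mul_self h4 hw) e)

theorem four_eq (h4 : IsKleinFour W) (l : W ≤ D) : z ∈ W ∧ ∃ r ∈ D, r ∉ zpowers a ∧ W = zpowers z ⊔ zpowers r := by
  obtain ⟨e1, i, e2⟩ := c.mc.k4_form l h4
  exact ⟨c.hz ▸ e1, _, c.mc.refl_mem i, c.mc.refl_not_mem i, c.hz ▸ c.mc.k4_eq h4 e1 e2⟩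

theorem exists_odd (H : IsConj t (z * t)) (h4 : IsKleinFour W) (l : W ≤ D) :
    ∃ h ∈ 𝐍(W) ⊓ 𝐂[t], Odd (orderOf h) ∧ h ∉ 𝐂(W) := by
  obtain ⟨zW, r, r1, r2, eW⟩ := c.four_eq h4 l
  obtain ⟨s, s1, s2⟩ := c.half
  have rW : r ∈ W := eW ▸ mem_sup_right (mem_zpowers r)
  have r3 : r ≠ 1 := fun e => r2 (e ▸ one_mem _)
  have za : z ∈ zpowers a := c.hz ▸ zpow_mem (mem_zpowers a) _
  have r4 : z ≠ r := fun e => r2 (e ▸ za)
  have st : s ∈ 𝐂[t] := mem_cent1.2 (c.cm (c.mc.zpowers_le s1))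
  have sz : s * z * s⁻¹ = z := mul_inv_eq_iff_eq_mul.2 (c.zm (c.mc.zpowers_le s1))
  obtain ⟨g, g1, g2⟩ := c.fus r r1 r3 (c.refl2 r1 r2)
  have hT : Syl 2 (D ⊔ zpowers t) (𝐂[t] ⊓ 𝐂[z]) := c.syl.of_le (le_inf c.syl.le (sup_le (fun d hd => mem_cent1.2
    (c.zm hd)) (zpowers_le.2 (mem_cent1.2 (c.cm c.zD).symm)))) inf_le_left
  obtain ⟨k, k1, k2⟩ := hT.exists_conj_le ((pgroup_conj g).2 (Inv.k4_isPGroup h4)) (le_inf (conj_le_iff.2 fun w hw =>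
    mul_mem (mul_mem g1 (mem_cent1.2 (c.cm (l hw)))) (inv_mem g1)) (by
      rw [← g2, ← conj_cent1]; exact conj_mono _ (le_cent1_iff.2 (Inv.k4_le_centralizer h4 rW))))
  rw [conj_conj] at k2
  have n1 : k * g ∈ 𝐂[t] := mul_mem k1.1 g1
  have n2 : k * g * r * (k * g)⁻¹ = z := by
    rw [show k * g * r * (k * g)⁻¹ = k * (g * r * g⁻¹) * k⁻¹ by group, g2, mem_cent1.1 k1.2, mul_inv_cancel_right]
  generalize k * g = n at k2 n1 n2
  have m := c.four_le H (Inv.k4_conj h4 n) k2 (fun w hw e => c.nD (l (mem_conj.1 hw)) (by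
    simpa using isConj_cj e n⁻¹)) (conj_mem_conj.2 zW)
  have e1 := c.move m (fun e => (c.eqz e (by
    rw [show n * z * n⁻¹ * (n * z * n⁻¹) = n * (z * z) * n⁻¹ by group, c.z2]; group)).elim (Inv.conj_ne_one c.z1)
      fun e => r4 (by simpa using e.trans n2.symm)) s1 s2
  have x1 : n⁻¹ * s * n * z * (n⁻¹ * s * n)⁻¹ = r * z := by
    rw [show n⁻¹ * s * n * z * (n⁻¹ * s * n)⁻¹ = n⁻¹ * (s * (n * z * n⁻¹) * s⁻¹) * n by group, e1]
    nth_rw 1 [← n2]; group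
  have x2 : n⁻¹ * s * n * r * (n⁻¹ * s * n)⁻¹ = r := by
    rw [show n⁻¹ * s * n * r * (n⁻¹ * s * n)⁻¹ = n⁻¹ * (s * (n * r * n⁻¹) * s⁻¹) * n by group, n2, sz, ← n2]; group
  have xt : n⁻¹ * s * n ∈ 𝐂[t] := mul_mem (mul_mem (inv_mem n1) st) n1
  generalize n⁻¹ * s * n = x at x1 x2 xt
  have nm : ∀ y, y * z * y⁻¹ ∈ W → y * r * y⁻¹ ∈ W → y ∈ 𝐍(W) := fun y a1 a2 => mem_normalizer_of_conj_le (by
    nth_rw 1 [eW]; rw [conj_sup, conj_zpowers, conj_zpowers]; exact sup_le (zpowers_le.2 a1) (zpowers_le.2 a2))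
  have sr := c.move r1 r2 s1 s2
  have xN : x ∈ 𝐍(W) ⊓ 𝐂[t] := ⟨nm x (x1 ▸ W.mul_mem rW zW) (x2.symm ▸ rW), xt⟩
  have sN : s ∈ 𝐍(W) ⊓ 𝐂[t] := ⟨nm s (sz.symm ▸ zW) (sr ▸ W.mul_mem zW rW), st⟩
  have o : hcl (𝐍(W) ⊓ 𝐂[t]) z = (W : Set G) \ {1} := by
    refine Set.Subset.antisymm ?_ ?_
    · rintro _ ⟨y, hy, rfl⟩; exact ⟨conj_mem_of_norm hy.1 zW, Inv.conj_ne_one c.z1⟩
    · rintro w ⟨w1, w2⟩
      rcases (Inv.k4_mem_iff h4 zW rW c.z1 r3 r4).1 w1 with rfl | rfl | rfl | rfl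
      · exact absurd rfl w2
      · exact ⟨1, one_mem _, by group⟩
      · refine ⟨s * x, mul_mem sN xN, ?_⟩
        rw [show s * x * z * (s * x)⁻¹ = s * (x * z * x⁻¹) * s⁻¹ by group, x1,
          show s * (w * z) * s⁻¹ = s * w * s⁻¹ * (s * z * s⁻¹) by group, sr, sz, ← c.zm r1, mul_assoc, c.z2, mul_one]
      · exact ⟨x, xN, x1.trans (c.zm r1)⟩
  refine (Inv.three_dvd_relIndex_iff (inf_le_left.trans (norm_cent le_rfl)) ((relIndex_dvd_of_norm inf_le_left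
    (norm_cent le_rfl)).trans (Inv.k4_relIndex_dvd_six h4))).1 (Dvd.dvd.trans (dvd_of_eq ?_)
      (relIndex_dvd_left (cent_le_cent1 zW) _))
  rw [← ncard_hcl, o, Set.ncard_sdiff_singleton_of_mem W.one_mem]
  exact (congrArg (· - 1) h4.card_four).symm

/-- The case of a normal four-group inside `D`. -/
theorem case_two (hG : pResidual 2 G = ⊤) (H : IsConj t (z * t)) (hS : Syl 2 S ⊤) (l : D ⊔ zpowers t ≤ S)
    (h4 : IsKleinFour W) (w1 : W ≤ D) (w2 : S ≤ 𝐍(W)) : False := by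
  obtain ⟨h, h1, h2, h3⟩ := c.exists_odd H h4 w1
  have nW : ∀ n : G, ∀ w ∈ n ⋆ W, ¬ IsConj t w := fun n w hw e => c.nD (w1 (mem_conj.1 hw)) (by
    simpa using isConj_cj e n⁻¹)
  obtain ⟨s, s1, s2⟩ := c.half
  refine Cl.four_false (h := h) hG ⟨c.t2, fun _ => Inv.k4_mul_self h4, h4.card_four.ge, cent_anti w1 c.tD,
    fun v hv => c.nD (w1 hv), c.nsq, fun u hu X hX a1 a2 => ?_, h2, h1.1, h1.2, fun v hv v1 w hw w3 => ?_⟩ h4 hS w2
    (fun e => ?_) fun X hX a1 a2 a3 => ?_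
  · obtain ⟨n, -, e⟩ := c.into hu hX (a2.trans inf_le_left)
    have k4 := Inv.k4_conj h4 n
    have l1 := c.four_le H k4 ((conj_mono n a1).trans e) (nW n)
    obtain ⟨-, r, r1, r2, eW⟩ := c.four_eq k4 l1
    have tn : t ∈ 𝐍(n ⋆ W) := cent_le_norm _ (cent_anti l1 c.tD)
    have rW : r ∈ n ⋆ W := eW ▸ mem_sup_right (mem_zpowers r)
    rw [← card_conj n X, ← card_conj n W, ← card_sup_zp tn (fun e => c.tn (l1 e)) (c.t2 ▸ one_mem _)]
    refine card_le_of_le fun x hx => (mem_sup_zp tn (c.t2 ▸ one_mem _)).2 ?_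
    have x1 := (BG.mem_cent.1 (conj_centralizer n W ▸ conj_mono n (a2.trans inf_le_right) hx) r rW).symm
    rw [inv_self c.t2, eW]
    exact (c.mem.1 (e hx)).imp (fun m => c.cent_refl r1 r2 m x1) fun m => c.cent_refl r1 r2 m (by
      rw [mul_assoc, ← c.cm r1, ← mul_assoc, x1, mul_assoc])
  · rcases Inv.k4_trans_of_odd h4 h1.1 h2 h3 hv v1 hw w3 with rfl | rfl | rfl
    exacts [⟨1, one_mem _, by group⟩, ⟨h, mem_zpowers h, rfl⟩, ⟨h⁻¹, inv_mem (mem_zpowers h), by group⟩]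
  · obtain ⟨-, r, r1, r2, eW⟩ := c.four_eq h4 w1
    have := c.move r1 r2 s1 s2
    rw [← BG.mem_cent.1 (e (l (mem_sup_left (c.mc.zpowers_le s1)))) r (eW ▸ mem_sup_right (mem_zpowers r)),
      mul_inv_cancel_right, right_eq_mul] at this
    exact c.z1 this
  · obtain ⟨n, e0, e⟩ := c.into (IsConj.refl t) hX (a2.trans inf_le_left)
    have k4 := Inv.k4_conj h4 n
    have l0 := conj_mono n (le_sup_left.trans a1)
    have l1 := c.four_le H k4 (l0.trans e) (nW n)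
    obtain ⟨-, r, r1, r2, eW⟩ := c.four_eq k4 l1
    have rW : r ∈ n ⋆ W := eW ▸ mem_sup_right (mem_zpowers r)
    have tX : t ∈ n ⋆ X := e0 ▸ conj_mem_conj.2 (a1 (mem_sup_right (mem_zpowers t)))
    suffices ∃ d ∈ n ⋆ X, d ∈ D ∧ d ∉ zpowers a ∧ d ∉ 𝐂(n ⋆ W) by
      obtain ⟨d, d1, d2, d3, d4⟩ := this
      refine ⟨_, mem_conj.1 d1, ?_, fun e => d4 (conj_centralizer n W ▸ mem_conj.2 e), fun e => c.nD d2 (by
        simpa [mul_assoc] using isConj_cj e n)⟩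
      rw [show n⁻¹ * d * n * (n⁻¹ * d * n) = n⁻¹ * (d * d) * n by group, c.refl2 d2 d3]; group
    obtain ⟨d, d1, d2, d3⟩ : ∃ d ∈ n ⋆ X, d ∈ D ∧ d ∉ 𝐂(n ⋆ W) := by
      obtain ⟨x, x1, x2⟩ := SetLike.not_le_iff_exists.1 a3
      have x3 : n * x * n⁻¹ ∉ 𝐂(n ⋆ W) := fun e => x2 (conj_mem_conj.1 (conj_centralizer n W ▸ e))
      rcases c.mem.1 (e (conj_mem_conj.2 x1)) with m | m
      · exact ⟨_, conj_mem_conj.2 x1, m, x3⟩
      · exact ⟨_, mul_mem (conj_mem_conj.2 x1) tX, m, fun e => x3 (by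
          simpa using mul_mem e (inv_mem (cent_anti l1 c.tD)))⟩
    by_cases da : d ∈ zpowers a
    · exact ⟨d * r, mul_mem d1 (l0 rW), D.mul_mem d2 r1, fun e => r2 (by simpa using mul_mem (inv_mem da) e),
        fun e => d3 (by simpa using mul_mem e (inv_mem (Inv.k4_le_centralizer k4 rW)))⟩
    · exact ⟨d, d1, d2, da, d3⟩

theorem false (hG : pResidual 2 G = ⊤) : False := by
  by_cases hn : Syl 2 (D ⊔ zpowers t) ⊤
  · obtain ⟨u, hu, e⟩ := thompson hG hn le_sup_left c.card c.t2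
    exact c.nD hu e
  have H := c.fused hn
  obtain ⟨S, hS, l⟩ := Syl.exists_ge c.syl.pgroup le_top
  have k4 := c.mc.k4_refl (c.mc.dih_refl_sq 0)
  have l0 := sup_le (zpowers_le.2 (c.mc.zpow_mem ((2 : ℤ) ^ m))) (zpowers_le.2 (c.mc.refl_mem 0))
  obtain ⟨W, w1, w2, h4⟩ := Agent.S0221.exists_normal_four hS.pgroup ((sup_le_sup_right l0 _).trans l)
    (PGroup.elemAb_sup_zpowers (PGroup.isKleinFour_iff.1 k4).1 (cent_anti l0 c.tD) ((_root_.sq t).trans c.t2)) (by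
      rw [card_sup_zp (cent_le_norm _ (cent_anti l0 c.tD)) (fun e => c.tn (l0 e)) (c.t2 ▸ one_mem _), k4.card_four])
  obtain ⟨g, g1, g2⟩ := thompson_ext hG hS inf_le_left (Inv.k4_card_le_two_mul h4 hS.pgroup w2) c.t2
    c.syl.pgroup c.syl.le
  have H2 : IsConj (g * t * g⁻¹) (g * z * g⁻¹ * (g * t * g⁻¹)) := by
    simpa [mul_assoc] using (isConj_cj (IsConj.refl t) g).symm.trans (isConj_cj H g)
  have lt : g ⋆ (D ⊔ zpowers t) < S := lt_of_le_of_ne g2 fun e => hn (hS.of_card_le' c.syl.pgroup le_top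
    (by rw [← e, card_conj]))
  rw [conj_sup, conj_zpowers] at lt
  replace c := c.conj g
  generalize g * t * g⁻¹ = t, g * z * g⁻¹ = z, g ⋆ D = D at c H2 lt g1
  have eT := c.syl.eq_of_le_pgroup (le_inf lt.le c.syl.le) inf_le_right (pgroup_of_le hS.pgroup inf_le_left)
  have l1 : W ≤ D ⊔ zpowers t := eT ▸ le_inf w1 (le_cent1_iff.2 g1.2)
  by_cases l2 : W ≤ D
  · exact c.case_two hG H2 hS lt.le h4 l2 w2
  obtain ⟨w, w3, w4⟩ := SetLike.not_le_iff_exists.1 l2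
  refine c.case_one hG H2 hS lt ((Inv.k4_card_le_two_mul h4 hS.pgroup w2).trans (Nat.mul_le_mul_left _ ?_))
  rw [c.card]
  exact c.card_le (c.out' H2 (l1 w3) (Inv.k4_mul_self h4 w3) w4) (pgroup_of_le hS.pgroup inf_le_left)
    (inf_le_right.trans (cent_le_cent1 w3))

end Di

end Cfsg.Lib.TL2
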